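import Cfsg.Agent.Lib.MonsterQ.Form
import Cfsg.Agent.Lib.Leech.Aut.Bridge
import Cfsg.Agent.Lib.PGroup.Basic
import Cfsg.Agent.Lib.Solvable.Core

/-! The centralizer of an involution of `Q` not fused to `z` is of Baby Monster type modulo that involution. -/

set_option autoImplicit false
set_option linter.style.haveILetI false

namespace CfsgLib.MonsterQ

open Cfsg CfsgLib CfsgLib.Leech CfsgLib.Leech.Aut
open scoped commutatorElement

/-- The inclusion of the stabiliser of the short vector. -/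
def co2Incl : ↥Spor.Co2 →* Co0 where
  toFun g := ⟨g.1, g.2.1⟩
  map_one' := rfl
  map_mul' _ _ := rfl

theorem co2Incl_fix (g : ↥Spor.Co2) : co2Incl g • Spor.leechU = Spor.leechU := g.2.2

theorem leechU_ne_neg : -Spor.leechU ≠ Spor.leechU := by
  intro h
  have := congrArg (fun v : leechLattice => (v : GolayPt → ℤ) none) h
  simp only [NegMemClass.coe_neg, Pi.neg_apply] at this
  have h4 : ((Spor.leechU : leechLattice) : GolayPt → ℤ) none = 4 := octVec_checks.2.2.2.2.2.2.2.2.2.2.2
  omega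

theorem co2_simple : IsSimpleGroup ↥Spor.Co2 ∧ Nat.card ↥Spor.Co2 = 42305421312000 := by
  have h := isCo2_stabilizer (v := Spor.leechU) sqNorm_leechU
  let e : MulAction.stabilizer Co0 Spor.leechU ≃* ↥Spor.Co2 := stabEquiv Spor.leechU
  exact ⟨(MulEquiv.isSimpleGroup_congr e).1 h.1, (Nat.card_congr e.toEquiv).symm.trans (card_stabilizer32 sqNorm_leechU)⟩

theorem co2_eq_bot_of_two {N : Subgroup ↥Spor.Co2} (hn : N.Normal) (h2 : IsPGroup 2 N) : N = ⊥ := by
  obtain ⟨hs, hcard⟩ := co2_simple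
  refine (hs.eq_bot_or_eq_top_of_normal _ hn).resolve_right fun htop => ?_
  haveI : Fact (Nat.Prime 2) := ⟨Nat.prime_two⟩
  haveI : Finite ↥Spor.Co2 := Nat.finite_of_card_ne_zero (by rw [hcard]; norm_num)
  obtain ⟨k, hk⟩ := IsPGroup.iff_card.1 h2
  rw [htop, Subgroup.card_top, hcard] at hk
  exact absurd (Nat.Prime.dvd_of_dvd_pow Nat.prime_three (hk ▸ (by norm_num : 3 ∣ 42305421312000))) (by norm_num)

variable {G : Type*} [Group G]

namespace Hyp

variable {z : G} {Q : Subgroup G} {π : ↥(Subgroup.centralizer ({z} : Set G)) →* Spor.Co1}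
  {θ : leechLattice → G} (H : Hyp z Q π θ)
include H

theorem class32 [Finite G] {t : G} (htQ : t ∈ Q) (ht2 : orderOf t = 2) (ht : ¬ IsConj z t) :
    ∃ g' : Co0, Cls z θ t (g' • Spor.leechU) := by
  obtain ⟨v, hv, hn | hn⟩ := H.other_class htQ ht2 ht
  · obtain ⟨g', hg'⟩ := Orbits.transitive32 Spor.leechU v sqNorm_leechU hn
    exact ⟨g', hg' ▸ hv⟩
  · have h := (H.sq_iff hv).1 (by rw [← pow_two, ← ht2, pow_orderOf_eq_one])
    omega

theorem not_conj_mul [Finite G] {t : G} {g' : Co0} (hcls : Cls z θ t (g' • Spor.leechU)) (ht1 : t ≠ 1) :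
    ¬ IsConj z (t * z) := by
  intro hc
  have htz := H.cls_z hcls
  obtain ⟨w, hw, h64⟩ := H.class_of_conj (H.cls_mem htz) hc (fun e => ht1 (mul_right_cancel (e.trans (one_mul z).symm)))
  have hn : sqNorm ((g' • Spor.leechU : leechLattice) : GolayPt → ℤ) = 32 := (sqNorm_smul _ _).trans sqNorm_leechU
  rcases eq_or_neg_of_cong (H.cong_of_cls hw htz) (by omega) with e | e
  · rw [e] at h64; omega
  · rw [e, NegMemClass.coe_neg, sqNorm_neg] at h64; omega

/-- An element of the centralizer of `t` moving `z` inside `Q`. -/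
theorem exists_mover [Finite G] {t : G} (htQ : t ∈ Q) (ht2 : orderOf t = 2) (ht : ¬ IsConj z t) :
    ∃ m ∈ Subgroup.centralizer ({t} : Set G), m * z * m⁻¹ ∈ Q ∧ m * z * m⁻¹ ≠ z := by
  obtain ⟨g', hcls⟩ := H.class32 htQ ht2 ht
  obtain ⟨s, hsQ, hs, hsne⟩ := H.nwc
  obtain ⟨g, rfl⟩ := isConj_iff.1 hs
  obtain ⟨d, v, ⟨hdQ, hdQs⟩, hv, hn⟩ := H.exists_norm32 hsQ hsne
  obtain ⟨h, hh, rfl⟩ := H.conj_of_norm (Or.inl rfl) hv hcls hn ((sqNorm_smul _ _).trans sqNorm_leechU)
  have hzh : h * z = z * h := Subgroup.mem_centralizer_singleton_iff.1 hh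
  have h1 : (h * g) * z * (h * g)⁻¹ ∈ Q := by
    rw [show h * g * z * (h * g)⁻¹ = h * (g * z * g⁻¹) * h⁻¹ by group]
    exact H.S.normal h hzh _ hsQ
  have h2 : (h * g) * z * (h * g)⁻¹ ≠ z := fun e => hsne (by
    calc g * z * g⁻¹ = h⁻¹ * ((h * g) * z * (h * g)⁻¹) * h := by group
      _ = z := by rw [e, mul_assoc, ← hzh]; group)
  have hpre : (h * g)⁻¹ * (h * d * h⁻¹) * (h * g) ∈ Q := by
    rw [show (h * g)⁻¹ * (h * d * h⁻¹) * (h * g) = g⁻¹ * d * g by group]
    exact mem_conjQ.1 hdQs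
  have ho : orderOf ((h * g)⁻¹ * (h * d * h⁻¹) * (h * g)) = 2 := by
    rw [show (h * g)⁻¹ * (h * d * h⁻¹) * (h * g) = (MulAut.conj (h * g)⁻¹).toMonoidHom (h * d * h⁻¹) by
      simp [MulAut.conj_apply, mul_assoc]]
    rw [orderOf_injective _ (MulAut.conj (h * g)⁻¹).injective, ht2]
  have hc : ¬ IsConj z ((h * g)⁻¹ * (h * d * h⁻¹) * (h * g)) := fun hc => ht (hc.trans (isConj_iff.2 ⟨h * g, by group⟩))
  obtain ⟨k, hk, hkeq⟩ := H.others_conj htQ hpre ht2 ho ht hc
  have hm : h * g * k * z * (h * g * k)⁻¹ = (h * g) * z * (h * g)⁻¹ := by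
    rw [show h * g * k * z * (h * g * k)⁻¹ = h * g * (k * z * k⁻¹) * (h * g)⁻¹ by group,
      Subgroup.mem_centralizer_singleton_iff.1 hk, mul_inv_cancel_right]
  refine ⟨h * g * k, ?_, hm ▸ h1, hm ▸ h2⟩
  rw [Subgroup.mem_centralizer_singleton_iff]
  refine mul_inv_eq_iff_eq_mul.1 ?_
  rw [show h * g * k * (h * d * h⁻¹) * (h * g * k)⁻¹ = h * g * (k * (h * d * h⁻¹) * k⁻¹) * (h * g)⁻¹ by group, hkeq]
  group

theorem exists_rho [Finite G] {t : G} {g' : Co0} (hcls : Cls z θ t (g' • Spor.leechU)) :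
    ∃ ρ : ↥(Subgroup.centralizer ({z} : Set G) ⊓ Subgroup.centralizer ({t} : Set G)) →* ↥Spor.Co2,
      Function.Surjective ρ ∧
      (∀ a : ↥(Subgroup.centralizer ({z} : Set G) ⊓ Subgroup.centralizer ({t} : Set G)), ρ a = 1 ↔ (a : G) ∈ Q) ∧
      ∀ a : ↥(Subgroup.centralizer ({z} : Set G) ⊓ Subgroup.centralizer ({t} : Set G)),
        π ⟨a, a.2.1⟩ = toCo1 g' (co2Incl (ρ a)) := by
  have hn : sqNorm ((g' • Spor.leechU : leechLattice) : GolayPt → ℤ) = 32 := (sqNorm_smul _ _).trans sqNorm_leechU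
  have hne := H.norm_ne_zero (Or.inl hn)
  let j : ↥Spor.Co2 →* Spor.Co1 := (toCo1 g').comp co2Incl
  have hj : Function.Injective j := by
    rw [injective_iff_map_eq_one]
    intro g hg
    have hc : co2Incl g ∈ Subgroup.center Co0 := (toCo1_ker g') ▸ hg
    have : co2Incl g ∈ ({1, negEl} : Set Co0) := by rw [← center_eq]; exact hc
    rcases this with e | e
    · exact Subtype.ext (congrArg (fun x : Co0 => x.1) e)
    · rw [Set.mem_singleton_iff] at e
      have := co2Incl_fix g
      rw [e, negEl_smul] at this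
      exact absurd this leechU_ne_neg
  have hrange : ∀ x, x ∈ xImage π t ↔ x ∈ j.range := by
    intro x
    obtain ⟨a, rfl⟩ := toCo1_surjective g' x
    show (QuotientGroup.mk (g' * a * g'⁻¹) : Spor.Co1) ∈ _ ↔ _
    rw [H.mem_xImage hcls hne, classStab_smul, Subgroup.mem_map_equiv, MulAut.conj_symm_apply,
      show g'⁻¹ * (g' * a * g'⁻¹) * g' = a by group, mem_classStab]
    constructor
    · intro hc
      rcases eq_or_neg_of_cong hc (by rw [sqNorm_smul, sqNorm_leechU]; norm_num) with e | e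
      · exact ⟨⟨a.1, a.2, e⟩, rfl⟩
      · have e' : (negEl * a) • Spor.leechU = Spor.leechU := by rw [mul_smul, e, negEl_smul, neg_neg]
        refine ⟨⟨(negEl * a).1, (negEl * a).2, e'⟩, ?_⟩
        show toCo1 g' (negEl * a) = toCo1 g' a
        rw [map_mul, show toCo1 g' negEl = 1 from ?_, one_mul]
        rw [← MonoidHom.mem_ker, toCo1_ker]
        exact Set.ext_iff.1 center_eq negEl |>.2 (Or.inr rfl)
    · rintro ⟨g, hg⟩
      have hc : (co2Incl g)⁻¹ * a ∈ Subgroup.center Co0 := by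
        rw [← toCo1_ker g', MonoidHom.mem_ker, map_mul, map_inv,
          show toCo1 g' (co2Incl g) = _ from hg, inv_mul_cancel]
      have := (classStab Spor.leechU).mul_mem
        (show co2Incl g ∈ classStab Spor.leechU by rw [mem_classStab, co2Incl_fix]; exact Cong.refl _)
        (center_le_classStab _ hc)
      rwa [mul_inv_cancel_left] at this
  let p : ↥(Subgroup.centralizer ({z} : Set G) ⊓ Subgroup.centralizer ({t} : Set G)) →* j.range :=
    (π.comp (Subgroup.inclusion inf_le_left)).codRestrict j.range fun a =>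
      (hrange _).1 ⟨⟨a, a.2.1⟩, ⟨a.2.1, a.2.2⟩, rfl⟩
  refine ⟨(MonoidHom.ofInjective hj).symm.toMonoidHom.comp p, ?_, fun a => ?_, fun a => ?_⟩
  · refine (MonoidHom.ofInjective hj).symm.surjective.comp ?_
    rintro ⟨x, hx⟩
    obtain ⟨a, ha, hax⟩ := (hrange x).2 hx
    exact ⟨⟨a, ha⟩, Subtype.ext hax⟩
  · show (MonoidHom.ofInjective hj).symm (p a) = 1 ↔ _
    rw [MulEquiv.map_eq_one_iff, Subtype.ext_iff]
    exact H.ker ⟨a, a.2.1⟩
  · have h := congrArg Subtype.val ((MonoidHom.ofInjective hj).apply_symm_apply (p a))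
    exact h.symm

theorem babyMonster [Finite G] {t : G} (htQ : t ∈ Q) (ht2 : orderOf t = 2) (ht : ¬ IsConj z t)
    [hn : ((Subgroup.zpowers t).subgroupOf (Subgroup.centralizer ({t} : Set G))).Normal] :
    Cfsg.IsOfBabyMonsterType (↥(Subgroup.centralizer ({t} : Set G)) ⧸
      (Subgroup.zpowers t).subgroupOf (Subgroup.centralizer ({t} : Set G))) := by
  classical
  haveI : Fact (Nat.Prime 2) := ⟨Nat.prime_two⟩
  obtain ⟨g', hcls⟩ := H.class32 htQ ht2 ht
  obtain ⟨ρ, hρs, hρk, hρπ⟩ := H.exists_rho hcls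
  obtain ⟨m, hm, hmQ, hmne⟩ := H.exists_mover htQ ht2 ht
  have ht1 : t ≠ 1 := fun e => by rw [e, orderOf_one] at ht2; omega
  have htz : t ≠ z := fun e => ht (e ▸ IsConj.refl t)
  have hnconj := H.not_conj_mul hcls ht1
  have htt : t * t = 1 := by rw [← pow_two, ← ht2, pow_orderOf_eq_one]
  have hT : ∀ x : G, x ∈ Subgroup.zpowers t ↔ x = 1 ∨ x = t := by
    intro x
    constructor
    · intro hx
      rw [mem_zpowers_iff_mem_range_orderOf, ht2] at hx
      simp only [Finset.mem_image, Finset.mem_range] at hx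
      obtain ⟨k, hk, rfl⟩ := hx
      interval_cases k <;> simp
    · rintro (rfl | rfl)
      exacts [one_mem _, Subgroup.mem_zpowers x]
  have hzt : z * t = t * z := H.z_comm htQ
  have hzCt : z ∈ (Subgroup.centralizer ({t} : Set G)) := Subgroup.mem_centralizer_singleton_iff.2 hzt
  set zb : ↥(Subgroup.centralizer ({t} : Set G)) ⧸ ((Subgroup.zpowers t).subgroupOf (Subgroup.centralizer ({t} : Set G))) := QuotientGroup.mk ⟨z, hzCt⟩
  have hmk : ∀ x y : ↥(Subgroup.centralizer ({t} : Set G)), (QuotientGroup.mk x : ↥(Subgroup.centralizer ({t} : Set G)) ⧸ ((Subgroup.zpowers t).subgroupOf (Subgroup.centralizer ({t} : Set G)))) = QuotientGroup.mk y ↔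
      (y : G) = x ∨ (y : G) = x * t := by
    intro x y
    rw [QuotientGroup.eq, Subgroup.mem_subgroupOf, hT]
    simp only [Subgroup.coe_mul, InvMemClass.coe_inv, inv_mul_eq_iff_eq_mul, mul_one]
  -- the centralizer of `zb` comes from `C(z)`
  have hlift : ∀ a : ↥(Subgroup.centralizer ({t} : Set G)), (QuotientGroup.mk a : ↥(Subgroup.centralizer ({t} : Set G)) ⧸ ((Subgroup.zpowers t).subgroupOf (Subgroup.centralizer ({t} : Set G)))) ∈ Subgroup.centralizer ({zb} : Set (↥(Subgroup.centralizer ({t} : Set G)) ⧸ ((Subgroup.zpowers t).subgroupOf (Subgroup.centralizer ({t} : Set G))))) ↔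
      (a : G) ∈ Subgroup.centralizer ({z} : Set G) := by
    intro a
    rw [Subgroup.mem_centralizer_singleton_iff, ← QuotientGroup.mk_mul, ← QuotientGroup.mk_mul, hmk,
      Subgroup.coe_mul, Subgroup.coe_mul, Subgroup.mem_centralizer_singleton_iff]
    constructor
    · rintro (e | e)
      · exact e.symm
      · refine absurd ?_ hnconj
        have hat := Subgroup.mem_centralizer_singleton_iff.1 a.2
        refine isConj_iff.2 ⟨(a : G)⁻¹, ?_⟩
        calc (a : G)⁻¹ * z * (a : G)⁻¹⁻¹ = (a : G)⁻¹ * (z * (a : G)) := by group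
          _ = z * t := by rw [e]; group
          _ = t * z := hzt
    · exact fun e => Or.inl e.symm
  let f : ↥(Subgroup.centralizer ({z} : Set G) ⊓ (Subgroup.centralizer ({t} : Set G))) →* ↥(Subgroup.centralizer ({zb} : Set (↥(Subgroup.centralizer ({t} : Set G)) ⧸ ((Subgroup.zpowers t).subgroupOf (Subgroup.centralizer ({t} : Set G)))))) :=
    MonoidHom.mk' (fun a => ⟨QuotientGroup.mk ⟨a, a.2.2⟩, (hlift _).2 a.2.1⟩) fun a b => rfl
  have hf : Function.Surjective f := by
    rintro ⟨x, hx⟩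
    obtain ⟨a, rfl⟩ := QuotientGroup.mk_surjective x
    exact ⟨⟨a, (hlift a).1 hx, a.2⟩, rfl⟩
  have hfeq : ∀ a b : ↥(Subgroup.centralizer ({z} : Set G) ⊓ (Subgroup.centralizer ({t} : Set G))), f a = f b ↔ (b : G) = a ∨ (b : G) = a * t :=
    fun a b => Subtype.ext_iff.trans (hmk ⟨a, a.2.2⟩ ⟨b, b.2.2⟩)
  have hkf : f.ker ≤ ρ.ker := by
    intro a ha
    rw [MonoidHom.mem_ker, hρk]
    rcases (hfeq 1 a).1 ((map_one f).trans ha.symm) with e | e <;> rw [e]
    · exact one_mem _
    · exact mul_mem (one_mem _) htQ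
  obtain ⟨fi, hfi⟩ := hf.hasRightInverse
  let ρb := f.liftOfRightInverse fi hfi ⟨ρ, hkf⟩
  have hρb : ∀ a, ρb (f a) = ρ a := fun a => f.liftOfRightInverse_comp_apply fi hfi ⟨ρ, hkf⟩ a
  have hρbs : Function.Surjective ρb := fun g => by
    obtain ⟨a, rfl⟩ := hρs g; exact ⟨f a, hρb a⟩
  set Qb := ρb.ker
  have hQb : ∀ a, f a ∈ Qb ↔ (a : G) ∈ Q := fun a => by rw [MonoidHom.mem_ker, hρb, hρk]
  -- the map from `Q ∩ C(t)`
  set A := Q ⊓ (Subgroup.centralizer ({t} : Set G))
  let inL : ↥A → ↥(Subgroup.centralizer ({z} : Set G) ⊓ (Subgroup.centralizer ({t} : Set G))) := fun a => ⟨a, H.le a.2.1, a.2.2⟩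
  let fA : ↥A →* ↥Qb := MonoidHom.mk' (fun a => ⟨f (inL a), (hQb _).2 a.2.1⟩)
    fun a b => Subtype.ext (map_mul f (inL a) (inL b))
  have hfA : Function.Surjective fA := by
    rintro ⟨x, hx⟩
    obtain ⟨a, rfl⟩ := hf x
    exact ⟨⟨a, (hQb a).1 hx, a.2.2⟩, rfl⟩
  have hfAeq : ∀ a b : ↥A, fA a = fA b ↔ (b : G) = a ∨ (b : G) = a * t := fun a b =>
    Subtype.ext_iff.trans (hfeq (inL a) (inL b))
  have hzA : z ∈ A := ⟨H.S.mem, hzCt⟩
  set zA : ↥Qb := fA ⟨z, hzA⟩
  have hzA1 : zA ≠ 1 := fun e => by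
    rcases (hfAeq 1 ⟨z, hzA⟩).1 ((map_one fA).trans e.symm) with e' | e'
    · exact H.S.ne_one e'
    · exact htz (by simpa using e'.symm)
  have hpm : ∀ a b : ↥A, (b : G) = a ∨ (b : G) = a * z → fA b = fA a ∨ fA b = fA a * zA := by
    intro a b h
    rcases h with h | h
    · exact Or.inl (congrArg fA (Subtype.ext h))
    · exact Or.inr (by rw [← map_mul]; exact congrArg fA (Subtype.ext h))
  have hzz : zA * zA = 1 := by rw [← map_mul, ← map_one fA]; exact congrArg fA (Subtype.ext H.zz)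
  have hzcen : zA ∈ Subgroup.center ↥Qb := Subgroup.mem_center_iff.2 fun x => by
    obtain ⟨a, rfl⟩ := hfA x
    rw [← map_mul, ← map_mul]
    exact congrArg fA (Subtype.ext (H.S.le_cent a a.2.1))
  have hcomm : ∀ x y : ↥Qb, x * y = y * x ∨ x * y = y * x * zA := by
    intro x y
    obtain ⟨a, rfl⟩ := hfA x
    obtain ⟨b, rfl⟩ := hfA y
    rw [← map_mul, ← map_mul]
    exact hpm (b * a) (a * b) (H.S.comm_z_left a.2.1 b.2.1)
  have hcenter : ∀ x : ↥Qb, x ∈ Subgroup.center ↥Qb ↔ x = 1 ∨ x = zA := by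
    intro x
    refine ⟨fun hx => ?_, by rintro (rfl | rfl); exacts [one_mem _, hzcen]⟩
    obtain ⟨a, rfl⟩ := hfA x
    have hall : ∀ y ∈ Q, y * t = t * y → y * (a : G) = (a : G) * y := by
      intro y hy hyt
      let b : ↥A := ⟨y, hy, Subgroup.mem_centralizer_singleton_iff.2 hyt⟩
      have h := Subgroup.mem_center_iff.1 hx (fA b)
      rw [← map_mul, ← map_mul] at h
      rcases (hfAeq _ _).1 h with e | e
      · exact e.symm
      · rcases H.S.comm_z_left a.2.1 hy with e' | e'
        · exact e'.symm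
        · exact absurd (mul_left_cancel (e.symm.trans e')) htz
    rcases H.central_pair htQ a.2.1 hall with e | e | e | e
    · exact Or.inl (by rw [show a = 1 from Subtype.ext e, map_one])
    · exact Or.inr (congrArg fA (Subtype.ext e))
    · exact Or.inl (((hfAeq 1 a).2 (Or.inr (by rw [e]; simp))).symm.trans (map_one fA))
    · refine Or.inr ((hfAeq ⟨z, hzA⟩ a).2 (Or.inr ?_)).symm
      rw [e]; exact hzt.symm
  have hcenz : Subgroup.center ↥Qb = Subgroup.zpowers zA := by
    refine le_antisymm (fun x hx => ?_) ((Subgroup.zpowers_le).2 hzcen)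
    rcases (hcenter x).1 hx with rfl | rfl
    exacts [one_mem _, Subgroup.mem_zpowers _]
  have hcardcen : Nat.card (Subgroup.center ↥Qb) = 2 := by
    rw [hcenz, Nat.card_zpowers]
    exact orderOf_eq_prime (by rw [pow_two]; exact hzz) hzA1
  have hcardQ : Nat.card ↥Qb = 2 ^ 23 := by
    obtain ⟨k, hk, hQk, hk2⟩ := H.card_inf_centralizer le_rfl htQ
    obtain ⟨q, hq, hqt⟩ := H.exists_flip htQ ht1 htz
    have hk2' := hk2 ⟨q, hq, fun e => by
      rw [e, mul_inv_cancel_right] at hqt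
      exact H.S.ne_one (left_eq_mul.1 hqt)⟩
    rw [H.card, hk2'] at hQk
    have hk := Subgroup.card_mul_index fA.ker
    rw [Subgroup.index_ker, MonoidHom.range_eq_top.2 hfA, Subgroup.card_top] at hk
    have hker : fA.ker = (Subgroup.zpowers t).subgroupOf A := by
      ext a
      rw [MonoidHom.mem_ker, Subgroup.mem_subgroupOf, hT, ← map_one fA, eq_comm, hfAeq]
      simp
    rw [hker, Nat.card_congr (Subgroup.subgroupOfEquivOfLe (show Subgroup.zpowers t ≤ A from
      (Subgroup.zpowers_le).2 (show t ∈ A from ⟨htQ, Subgroup.mem_centralizer_singleton_iff.2 rfl⟩))).toEquiv, Nat.card_zpowers, ht2] at hk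
    have hA : Nat.card ↥A = Nat.card ↥(Q ⊓ Subgroup.centralizer ({t} : Set G)) := rfl
    omega
  have h2g : IsPGroup 2 ↥Qb := IsPGroup.of_card hcardQ
  have hcommle : commutator ↥Qb ≤ Subgroup.center ↥Qb := by
    rw [commutator_def, Subgroup.commutator_le]
    intro x _ y _
    rw [hcenter, commutatorElement_def]
    rcases hcomm x y with e | e
    · left; rw [e]; group
    · right
      rw [e]
      have := Subgroup.mem_center_iff.1 hzcen x⁻¹
      have := Subgroup.mem_center_iff.1 hzcen y⁻¹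
      calc y * x * zA * x⁻¹ * y⁻¹ = y * x * (zA * x⁻¹) * y⁻¹ := by group
        _ = y * (zA * y⁻¹) := by rw [← Subgroup.mem_center_iff.1 hzcen x⁻¹]; group
        _ = zA := by rw [← Subgroup.mem_center_iff.1 hzcen y⁻¹]; group
  have hex : Cfsg.IsExtraspecial 2 ↥Qb := by
    have hceq : commutator ↥Qb = Subgroup.center ↥Qb := by
      refine Subgroup.eq_of_le_of_card_ge hcommle ?_
      rw [hcardcen]
      by_contra hlt
      push Not at hlt
      have hbot := Subgroup.eq_bot_of_card_le (commutator ↥Qb) (by omega)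
      have htop : Subgroup.center ↥Qb = ⊤ := by
        rw [eq_top_iff]
        intro x _
        refine Subgroup.mem_center_iff.2 fun y => ?_
        have := Subgroup.commutator_mem_commutator (Subgroup.mem_top y) (Subgroup.mem_top x)
        rw [← commutator_def, hbot, Subgroup.mem_bot, commutatorElement_eq_one_iff_mul_comm] at this
        exact this
      rw [htop, Subgroup.card_top, hcardQ] at hcardcen
      omega
    refine ⟨⟨h2g, le_antisymm (CfsgLib.PGroup.frattini_le_of_elementary (p := 2) (fun x y => ?_) (fun x => ?_))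
      (hceq ▸ CfsgLib.PGroup.commutator_le_frattini h2g), hceq⟩, hcardcen⟩
    · exact hcommle (Subgroup.commutator_mem_commutator (Subgroup.mem_top x) (Subgroup.mem_top y))
    · obtain ⟨a, rfl⟩ := hfA x
      rw [pow_two, ← map_mul, hcenter]
      rcases H.S.sq a a.2.1 with e | e
      · exact Or.inl (by rw [show a * a = 1 from Subtype.ext e, map_one])
      · exact Or.inr (congrArg fA (Subtype.ext e))
  -- the module
  have hperp : ∀ x : leechPerpU, θ (g' • (x : leechLattice)) ∈ A := fun x =>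
    ⟨H.mem _, Subgroup.mem_centralizer_singleton_iff.2 ((H.comm_iff (Or.inl rfl) hcls).2 (by
      rw [dotInt_smul]; exact x.2))⟩
  let ψ : leechPerpU → ↥Qb ⧸ Subgroup.center ↥Qb := fun x => QuotientGroup.mk (fA ⟨_, hperp x⟩)
  have hψ : ∀ (a : ↥A) (x : leechPerpU), Cls z θ (a : G) (g' • (x : leechLattice)) →
      ψ x = QuotientGroup.mk (fA a) := by
    intro a x h
    rw [QuotientGroup.eq, hcenter]
    rcases hpm ⟨_, hperp x⟩ a h with e | e <;> rw [e]
    · exact Or.inl (inv_mul_cancel _)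
    · exact Or.inr (inv_mul_cancel_left _ _)
  have hψadd : ∀ x y : leechPerpU, ψ (x + y) = ψ x * ψ y := fun x y => by
    rw [hψ (⟨_, hperp x⟩ * ⟨_, hperp y⟩) (x + y), map_mul, QuotientGroup.mk_mul]
    rw [AddSubgroup.coe_add, smul_add']
    exact H.cls_mul (Or.inl rfl) (Or.inl rfl)
  have hψker : ∀ x : leechPerpU, ψ x = 1 ↔
      Cong (x : leechLattice) 0 ∨ Cong (x : leechLattice) Spor.leechU := by
    intro x
    rw [show ψ x = QuotientGroup.mk (fA ⟨_, hperp x⟩) from rfl, QuotientGroup.eq_one_iff, hcenter]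
    have hsmul : ∀ v : leechLattice, Cong (g' • (x : leechLattice)) (g' • v) ↔ Cong (x : leechLattice) v := by
      intro v
      refine ⟨fun h => ?_, fun h => h.smul g'⟩
      have := h.smul g'⁻¹
      rwa [inv_smul_smul, inv_smul_smul] at this
    constructor
    · intro h
      have h4 : θ (g' • (x : leechLattice)) = 1 ∨ θ (g' • (x : leechLattice)) = z ∨
          θ (g' • (x : leechLattice)) = t ∨ θ (g' • (x : leechLattice)) = z * t := by
        rcases h with e | e
        · rcases (hfAeq 1 _).1 ((map_one fA).trans e.symm) with e' | e'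
          · exact Or.inl e'
          · exact Or.inr (Or.inr (Or.inl (e'.trans (one_mul t))))
        · rcases (hfAeq _ _).1 e.symm with e' | e'
          · exact Or.inr (Or.inl e')
          · exact Or.inr (Or.inr (Or.inr e'))
      rcases h4 with e | e | e | e
      · left; rw [← hsmul, smul_zero']; exact (H.noncentral (Or.inl rfl)).1 (Or.inl e)
      · left; rw [← hsmul, smul_zero']; exact (H.noncentral (Or.inl rfl)).1 (Or.inr e)
      · right; exact (hsmul _).1 (H.cong_of_cls (x := t) (Or.inl e.symm) hcls)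
      · right; exact (hsmul _).1 (H.cong_of_cls (x := t * z) (Or.inl (hzt.symm.trans e.symm)) (H.cls_z hcls))
    · intro h
      rcases h with h | h
      · rcases (H.noncentral (Or.inl rfl)).2 ((hsmul 0).2 h |> fun h' => by rwa [smul_zero'] at h') with e | e
        · exact Or.inl (by rw [show (⟨_, hperp x⟩ : ↥A) = 1 from Subtype.ext e, map_one])
        · exact Or.inr (congrArg fA (Subtype.ext e))
      · rcases H.eq_of_cls hcls (H.cls_of_cong (Or.inl rfl) ((hsmul _).2 h)) with e | e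
        · exact Or.inl (((hfAeq 1 _).2 (Or.inr (by show θ _ = _; rw [e]; simp))).symm.trans (map_one fA))
        · exact Or.inr ((hfAeq ⟨z, hzA⟩ _).2 (Or.inr (e.trans hzt.symm))).symm
  have hconj : ∀ (a : ↥(Subgroup.centralizer ({z} : Set G) ⊓ (Subgroup.centralizer ({t} : Set G)))) (b : ↥A) (x y : leechPerpU),
      Cls z θ (b : G) (g' • (x : leechLattice)) → co2Incl (ρ a) • (x : leechLattice) = (y : leechLattice) →
      ψ y = QuotientGroup.mk ⟨f a * (fA b : ↥(Subgroup.centralizer ({zb} : Set (↥(Subgroup.centralizer ({t} : Set G)) ⧸ ((Subgroup.zpowers t).subgroupOf (Subgroup.centralizer ({t} : Set G))))))) * (f a)⁻¹,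
        (inferInstance : Qb.Normal).conj_mem _ (fA b).2 _⟩ := by
    intro a b x y hb hxy
    have hab : (a : G) * (b : G) * (a : G)⁻¹ ∈ A :=
      ⟨H.S.normal a (Subgroup.mem_centralizer_singleton_iff.1 a.2.1) _ b.2.1,
        mul_mem (mul_mem a.2.2 b.2.2) ((Subgroup.centralizer ({t} : Set G)).inv_mem a.2.2)⟩
    have hc := H.cls_conj hb ⟨a, a.2.1⟩ (hρπ a)
    rw [← mul_smul, show (MulAut.conj g').toMonoidHom (co2Incl (ρ a)) * g' = g' * co2Incl (ρ a) from
      inv_mul_cancel_right (g' * co2Incl (ρ a)) g', mul_smul, hxy] at hc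
    rw [hψ ⟨_, hab⟩ y hc]
    rfl
  -- the setting
  refine ⟨zb, Qb, inferInstance, ⟨?_, ?_, hex, by rw [hcardQ], ?_⟩,
    QuotientGroup.quotientKerEquivOfSurjective ρb hρbs, ψ, hψadd, ?_, ?_, ?_⟩
  · refine orderOf_eq_prime ?_ ?_
    · rw [pow_two, ← QuotientGroup.mk_mul, QuotientGroup.eq_one_iff, Subgroup.mem_subgroupOf]
      show z * z ∈ _
      rw [H.zz]; exact one_mem _
    · rw [ne_eq, QuotientGroup.eq_one_iff, Subgroup.mem_subgroupOf, hT]
      rintro (e | e)
      exacts [H.S.ne_one e, htz e.symm]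
  · have hcentQb : Subgroup.centralizer (Qb : Set ↥(Subgroup.centralizer ({zb} : Set (↥(Subgroup.centralizer ({t} : Set G)) ⧸ ((Subgroup.zpowers t).subgroupOf (Subgroup.centralizer ({t} : Set G))))))) ≤ Qb := by
      set Cc := Subgroup.centralizer (Qb : Set ↥(Subgroup.centralizer ({zb} : Set (↥(Subgroup.centralizer ({t} : Set G)) ⧸ ((Subgroup.zpowers t).subgroupOf (Subgroup.centralizer ({t} : Set G)))))))
      rcases co2_simple.1.eq_bot_or_eq_top_of_normal (Cc.map ρb)
          (Subgroup.Normal.map inferInstance _ hρbs) with e | e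
      · rwa [Subgroup.map_eq_bot_iff] at e
      · exfalso
        obtain ⟨hA1, hB1, hd0, hdU, hn1, -, -, hc0, hc1, hdiff0, -, hU0⟩ := octVec_checks
        have hfix : signEl 76 • Spor.leechU = Spor.leechU := by
          refine Subtype.ext ?_
          rw [coe_signEl_smul]
          funext p
          simp only [flipAt, monoFun]
          show (if Golay.toWord (Golay.comb 76) p = 1 then -Spor.vecU ((1 : Equiv.Perm GolayPt) p)
            else Spor.vecU ((1 : Equiv.Perm GolayPt) p)) = Spor.vecU p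
          by_cases hp : p = none ∨ p = some 0
          · rcases hp with rfl | rfl
            · rw [hc0, if_neg zero_ne_one]; rfl
            · rw [hc1, if_neg zero_ne_one]; rfl
          · simp [Spor.vecU, hp]
        let g : ↥Spor.Co2 := ⟨(signEl 76).1, (signEl 76).2, hfix⟩
        obtain ⟨h, hh, hhg⟩ := (e ▸ Subgroup.mem_top g : g ∈ Cc.map ρb)
        obtain ⟨a, rfl⟩ := hf h
        rw [hρb] at hhg
        let x : leechPerpU := ⟨testA, by show (16 : ℤ) ∣ dotInt (octVec 4845570) Spor.vecU; rw [hdU]; exact dvd_zero _⟩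
        have hyp : signEl 76 • testA ∈ leechPerpU := by
          show (16 : ℤ) ∣ dotInt _ ((Spor.leechU : leechLattice) : GolayPt → ℤ)
          rw [← hfix, dotInt_smul]
          exact x.2
        let y : leechPerpU := ⟨_, hyp⟩
        have hxy : co2Incl (ρ a) • (x : leechLattice) = (y : leechLattice) := by rw [hhg]; rfl
        have h1 := hconj a ⟨_, hperp x⟩ x y (Or.inl rfl) hxy
        have h2 : ψ y = ψ x := by
          rw [h1]
          refine congrArg QuotientGroup.mk (Subtype.ext ?_)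
          exact mul_inv_eq_iff_eq_mul.2 (Subgroup.mem_centralizer_iff.1 hh _ (fA ⟨_, hperp x⟩).2).symm
        have h3 : ψ (y + x) = 1 := by
          rw [hψadd, h2, ← hψadd, hψker]
          exact Or.inl ⟨(x : leechLattice), by simp⟩
        have h5 : sqNorm ((signEl 76 • testA - testA : leechLattice) : GolayPt → ℤ) = 32 := by
          rw [AddSubgroupClass.coe_sub, coe_signEl_smul]; exact hn1
        have hcd : Cong (signEl 76 • testA - testA) (signEl 76 • testA + testA) := ⟨-testA, by abel⟩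
        rcases (hψker _).1 h3 with h4 | h4
        · refine not_cong_zero ?_ (by omega) (hcd.trans h4)
          intro e0; rw [e0] at h5; simp [sqNorm] at h5
        · have h0 : ((signEl 76 • testA - testA : leechLattice) : GolayPt → ℤ) none = 0 := by
            rw [AddSubgroupClass.coe_sub, coe_signEl_smul]; exact hdiff0
          have h4v : ((Spor.leechU : leechLattice) : GolayPt → ℤ) none = 4 := hU0
          rcases eq_or_neg_of_cong (hcd.trans h4) (by rw [h5, sqNorm_leechU]; norm_num) with e' | e'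
          · rw [e'] at h0; omega
          · rw [e', NegMemClass.coe_neg, Pi.neg_apply] at h0; omega
    have hcore : Cfsg.pCore 2 ↥(Subgroup.centralizer ({zb} : Set (↥(Subgroup.centralizer ({t} : Set G)) ⧸ ((Subgroup.zpowers t).subgroupOf (Subgroup.centralizer ({t} : Set G)))))) = Qb := by
      refine le_antisymm ?_ (CfsgLib.Solvable.le_pCore inferInstance h2g)
      rw [← Subgroup.map_eq_bot_iff]
      exact co2_eq_bot_of_two (Subgroup.Normal.map (CfsgLib.Solvable.pCore_normal (p := 2) _) _ hρbs)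
        ((CfsgLib.Solvable.pCore_isPGroup (p := 2) _).map _)
    rw [← hcore, Components.genFitting_eq_pCore_iff, hcore]
    exact hcentQb
  · refine ⟨QuotientGroup.mk ⟨m, hm⟩, ⟨?_, ?_⟩, ?_⟩
    · exact (hlift ⟨_, mul_mem (mul_mem hm hzCt) ((Subgroup.centralizer ({t} : Set G)).inv_mem hm)⟩).2 (H.le hmQ)
    · exact (hQb ⟨m * z * m⁻¹, H.le hmQ, mul_mem (mul_mem hm hzCt) ((Subgroup.centralizer ({t} : Set G)).inv_mem hm)⟩).2 hmQ
    · intro e
      let m' : ↥(Subgroup.centralizer ({t} : Set G)) := ⟨m, hm⟩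
      let z' : ↥(Subgroup.centralizer ({t} : Set G)) := ⟨z, hzCt⟩
      have e2 : (QuotientGroup.mk (m' * z' * m'⁻¹) : _ ⧸ ((Subgroup.zpowers t).subgroupOf (Subgroup.centralizer ({t} : Set G)))) =
          QuotientGroup.mk z' := by
        rw [QuotientGroup.mk_mul, QuotientGroup.mk_mul, QuotientGroup.mk_inv]
        exact e
      rcases (hmk (m' * z' * m'⁻¹) z').1 e2 with e' | e'
      · exact hmne e'.symm
      · refine hnconj (isConj_iff.2 ⟨m, ?_⟩)
        have e'' : z = m * z * m⁻¹ * t := e'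
        calc m * z * m⁻¹ = m * z * m⁻¹ * t * t := by rw [mul_assoc _ t t, htt, mul_one]
          _ = z * t := by rw [← e'']
          _ = t * z := hzt
  · intro w
    obtain ⟨q, rfl⟩ := QuotientGroup.mk_surjective w
    obtain ⟨a, rfl⟩ := hfA q
    obtain ⟨v, hv⟩ := H.cover a a.2.1
    have hx : g'⁻¹ • v ∈ leechPerpU := by
      show (16 : ℤ) ∣ dotInt _ ((Spor.leechU : leechLattice) : GolayPt → ℤ)
      rw [← dotInt_smul g', smul_inv_smul]
      exact (H.comm_iff hv hcls).1 (Subgroup.mem_centralizer_singleton_iff.1 a.2.2)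
    exact ⟨⟨_, hx⟩, hψ a ⟨_, hx⟩ (by rw [smul_inv_smul]; exact hv)⟩
  · intro x
    rw [hψker]
    constructor
    · rintro (⟨w, hw⟩ | ⟨w, hw⟩)
      · exact Or.inl ⟨w, by rwa [sub_zero] at hw⟩
      · exact Or.inr ⟨w, by rw [← hw]; abel⟩
    · rintro (⟨w, hw⟩ | ⟨w, hw⟩)
      · exact Or.inl ⟨w, by rw [sub_zero, hw]⟩
      · exact Or.inr ⟨w, by rw [hw]; abel⟩
  · intro h g hg x y hxy q hq
    obtain ⟨a, rfl⟩ := hf h
    have hga : g = ρ a := hg.symm.trans (hρb a)
    obtain ⟨b, rfl⟩ := hfA q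
    have hb : fA b = fA ⟨_, hperp x⟩ ∨ fA b = fA ⟨_, hperp x⟩ * zA := by
      have := QuotientGroup.eq.1 hq
      rcases (hcenter _).1 this with e | e
      · exact Or.inl (inv_mul_eq_one.1 e).symm
      · exact Or.inr (inv_mul_eq_iff_eq_mul.1 e)
    subst hga
    rcases hb with e | e
    · simp only [e]
      exact hconj a ⟨_, hperp x⟩ x y (Or.inl rfl) hxy
    · rw [← map_mul] at e
      simp only [e]
      exact hconj a (⟨_, hperp x⟩ * ⟨z, hzA⟩) x y (Or.inr rfl) hxy

end Hyp

end CfsgLib.MonsterQ
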