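import Cfsg.Agent.Lib.MonsterQ.Main
import Cfsg.Agent.Lib.Leech.Check

/-! The quadratic form of `Q` is the norm of the lattice modulo two. -/

set_option autoImplicit false
set_option linter.style.haveILetI false

namespace CfsgLib.MonsterQ

open Cfsg CfsgLib CfsgLib.Leech

/-- Two twos on a pair of disjoint supports. -/
def octVec (m : ℕ) : GolayPt → ℤ := fun p => if m.testBit (Golay.bit p) then 2 else 0

/-- Negate off a mask. -/
def flipAt (m : ℕ) (x : GolayPt → ℤ) : GolayPt → ℤ := monoFun 1 (Golay.toWord m) x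

theorem octVec_checks :
    leechB (octVec 4845570) = true ∧ leechB (octVec 1302533) = true ∧
    dotInt (octVec 4845570) (Pi.single none 8) = 0 ∧
    dotInt (octVec 4845570) Spor.vecU = 0 ∧
    sqNorm (flipAt (Golay.comb 76) (octVec 4845570) - octVec 4845570) = 32 ∧
    sqNorm (flipAt (Golay.comb 8) (octVec 1302533) - octVec 1302533) = 32 ∧
    sqNorm (flipAt (Golay.comb 440) (octVec 4845570 + octVec 1302533) - (octVec 4845570 + octVec 1302533)) = 32 ∧
    Golay.toWord (Golay.comb 76) none = 0 ∧ Golay.toWord (Golay.comb 76) (some 0) = 0 ∧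
    (flipAt (Golay.comb 76) (octVec 4845570) - octVec 4845570) none = 0 ∧
    sqNorm Spor.vecU = 32 ∧ Spor.vecU none = 4 := by
  decide +kernel

/-- The first test vector. -/
def testA : leechLattice := ⟨octVec 4845570, mem_of_leechB octVec_checks.1⟩

/-- The second test vector. -/
def testB : leechLattice := ⟨octVec 1302533, mem_of_leechB octVec_checks.2.1⟩

/-- A sign change. -/
def signEl (x : ℕ) : Co0 := diagHom (Multiplicative.ofAdd ⟨_, Golay.toWord_comb_mem x⟩)

theorem coe_signEl_smul (x : ℕ) (v : leechLattice) :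
    ((signEl x • v : leechLattice) : GolayPt → ℤ) = flipAt (Golay.comb x) (v : GolayPt → ℤ) :=
  coe_monoEl_smul (hτ := one_mem _) (c := Golay.toWord (Golay.comb x)) (hc := Golay.toWord_comb_mem x) v

theorem dot_dvd (v w : leechLattice) : (8 : ℤ) ∣ dotInt (v : GolayPt → ℤ) (w : GolayPt → ℤ) := by
  have h := sqNorm_add (v : GolayPt → ℤ) (w : GolayPt → ℤ)
  obtain ⟨a, ha⟩ := leech_even v.2
  obtain ⟨b, hb⟩ := leech_even w.2
  obtain ⟨c, hc⟩ := leech_even (add_mem v.2 w.2)
  omega

theorem norm32_congr {v w : leechLattice} (h : Cong v w) :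
    (32 : ℤ) ∣ sqNorm (v : GolayPt → ℤ) ↔ (32 : ℤ) ∣ sqNorm (w : GolayPt → ℤ) := by
  obtain ⟨u, hu⟩ := h
  have e : (v : GolayPt → ℤ) = (w : GolayPt → ℤ) + ((u + u : leechLattice) : GolayPt → ℤ) := by
    rw [← hu, AddSubgroupClass.coe_sub, add_sub_cancel]
  have h1 := sqNorm_add (w : GolayPt → ℤ) ((u + u : leechLattice) : GolayPt → ℤ)
  obtain ⟨a, ha⟩ := dot_dvd w u
  obtain ⟨b, hb⟩ := leech_even u.2
  have h2 : dotInt (w : GolayPt → ℤ) ((u + u : leechLattice) : GolayPt → ℤ) =
      2 * dotInt (w : GolayPt → ℤ) (u : GolayPt → ℤ) := by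
    simp only [dotInt, AddSubgroup.coe_add, Pi.add_apply, Finset.mul_sum]
    exact Finset.sum_congr rfl fun i _ => by ring
  have h3 : sqNorm ((u + u : leechLattice) : GolayPt → ℤ) = 4 * sqNorm (u : GolayPt → ℤ) := by
    simp only [sqNorm, AddSubgroup.coe_add, Pi.add_apply, Finset.mul_sum]
    exact Finset.sum_congr rfl fun i _ => by ring
  rw [← e] at h1
  omega

namespace Hyp

variable {G : Type*} [Group G] {z : G} {Q : Subgroup G}
  {π : ↥(Subgroup.centralizer ({z} : Set G)) →* Spor.Co1} {θ : leechLattice → G} (H : Hyp z Q π θ)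
include H

theorem cls_inv {x : G} {v : leechLattice} (hx : Cls z θ x v) : Cls z θ x⁻¹ v := by
  rcases H.S.sq x (H.cls_mem hx) with h | h
  · rwa [inv_eq_of_mul_eq_one_right h]
  · have : x⁻¹ = x * z := inv_eq_of_mul_eq_one_right (by rw [← mul_assoc, h, H.zz])
    rw [this]
    exact H.cls_z hx

/-- The subgroup `Q ∩ Q^g` contains an element in a class of norm 32. -/
theorem exists_norm32 [Finite G] {g : G} (hgQ : g * z * g⁻¹ ∈ Q) (hgne : g * z * g⁻¹ ≠ z) :
    ∃ d v, d ∈ Q ⊓ Q.map (MulAut.conj g).toMonoidHom ∧ Cls z θ d v ∧ sqNorm (v : GolayPt → ℤ) = 32 := by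
  obtain ⟨-, g', hR, -, -⟩ := H.pair_structure hgQ hgne
  set s := g * z * g⁻¹ with hs
  have key : ∀ (q : G) (w : leechLattice) (x : ℕ), q * s = s * q → Cls z θ q (g' • w) →
      sqNorm (flipAt (Golay.comb x) (w : GolayPt → ℤ) - (w : GolayPt → ℤ)) = 32 →
      ∃ d v, d ∈ Q ⊓ Q.map (MulAut.conj g).toMonoidHom ∧ Cls z θ d v ∧ sqNorm (v : GolayPt → ℤ) = 32 := by
    intro q w x hqs hq hn
    have hm : toCo1 g' (signEl x) ∈ rImage π Q g := hR ▸ ⟨_, ⟨_, rfl⟩, rfl⟩
    obtain ⟨b, hb, hbx⟩ := hm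
    have hqQ := H.cls_mem hq
    have hd1 : (b : G) * q * (b : G)⁻¹ * q⁻¹ ∈ Q :=
      mul_mem (H.S.normal b (Subgroup.mem_centralizer_singleton_iff.1 b.2) q hqQ) (inv_mem hqQ)
    have hd2 : (b : G) * q * (b : G)⁻¹ * q⁻¹ ∈ Q.map (MulAut.conj g).toMonoidHom := by
      rw [show (b : G) * q * (b : G)⁻¹ * q⁻¹ = (b : G) * (q * (b : G)⁻¹ * q⁻¹) by group]
      exact mul_mem hb.1 (H.centralizer_le_normalizer_conjQ (Subgroup.mem_centralizer_singleton_iff.2 hqs)
        (inv_mem hb.1))
    have hc := H.cls_mul (H.cls_conj hq b hbx) (H.cls_inv hq)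
    rw [← mul_smul, show (MulAut.conj g').toMonoidHom (signEl x) * g' = g' * signEl x from
      inv_mul_cancel_right (g' * signEl x) g', mul_smul, ← smul_add'] at hc
    refine ⟨_, g' • (signEl x • w - w), ⟨hd1, hd2⟩, H.cls_of_cong hc (Cong.smul ⟨w, by abel⟩ g'), ?_⟩
    rw [sqNorm_smul, AddSubgroupClass.coe_sub, coe_signEl_smul]
    exact hn
  obtain ⟨-, -, -, -, ha, hb, hab, -⟩ := octVec_checks
  have hA := key (θ (g' • testA)) testA 76
  have hB := key (θ (g' • testB)) testB 8
  by_cases h1 : θ (g' • testA) * s = s * θ (g' • testA)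
  · exact hA h1 (Or.inl rfl) ha
  by_cases h2 : θ (g' • testB) * s = s * θ (g' • testB)
  · exact hB h2 (Or.inl rfl) hb
  refine key (θ (g' • testA) * θ (g' • testB)) (testA + testB) 440 ?_ ?_ ?_
  · have e1 := (H.S.comm_z_left (H.mem (g' • testA)) hgQ).resolve_left h1
    have e2 := (H.S.comm_z_left (H.mem (g' • testB)) hgQ).resolve_left h2
    calc θ (g' • testA) * θ (g' • testB) * s = θ (g' • testA) * (s * θ (g' • testB) * z) := by
          rw [mul_assoc, e2]
      _ = θ (g' • testA) * s * (θ (g' • testB) * z) := by group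
      _ = s * θ (g' • testA) * z * (θ (g' • testB) * z) := by rw [e1]
      _ = s * θ (g' • testA) * (z * θ (g' • testB)) * z := by group
      _ = s * (θ (g' • testA) * θ (g' • testB)) * (z * z) := by
          rw [H.z_comm (H.mem _)]; group
      _ = s * (θ (g' • testA) * θ (g' • testB)) := by rw [H.zz, mul_one]
  · rw [smul_add']; exact H.cls_mul (Or.inl rfl) (Or.inl rfl)
  · rw [AddSubgroup.coe_add]; exact hab

theorem exists_involution32 [Finite G] :
    ∃ d v, Cls z θ d v ∧ sqNorm (v : GolayPt → ℤ) = 32 ∧ d * d = 1 := by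
  obtain ⟨s, hsQ, hs, hsne⟩ := H.nwc
  obtain ⟨g, rfl⟩ := isConj_iff.1 hs
  obtain ⟨d, v, hd, hv, hn⟩ := H.exists_norm32 hsQ hsne
  exact ⟨d, v, hv, hn, (H.inter_props hsQ hsne).2 d hd⟩

theorem sq_iff [Finite G] {x : G} {v : leechLattice} (hx : Cls z θ x v) :
    x * x = 1 ↔ (32 : ℤ) ∣ sqNorm (v : GolayPt → ℤ) := by
  obtain ⟨w, hw, hc⟩ := exists_short_cong v
  have hxw := H.cls_of_cong hx hc
  rw [norm32_congr hc]
  by_cases h0 : w = 0
  · subst h0
    refine iff_of_true ?_ (by simp [sqNorm])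
    rcases (H.noncentral hxw).2 (Cong.refl 0) with e | e <;> rw [e]
    exacts [one_mul 1, H.zz]
  have tr : ∀ {a b : G}, (∃ h ∈ Subgroup.centralizer ({z} : Set G), h * a * h⁻¹ = b) → a * a = 1 → b * b = 1 := by
    rintro a b ⟨h, -, rfl⟩ ha
    rw [show h * a * h⁻¹ * (h * a * h⁻¹) = h * (a * a) * h⁻¹ by group, ha, mul_one, mul_inv_cancel]
  rcases short_norm_cases w h0 hw with hn | hn | hn
  · obtain ⟨d, u, hu, hun, hd⟩ := H.exists_involution32
    exact iff_of_true (tr (H.conj_of_norm (Or.inl rfl) hu hxw hun hn) hd) (by omega)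
  · obtain ⟨d, u, hu, hun, hd⟩ := H.exists_involution32
    exact iff_of_false (fun e => H.not_both hu hxw hun hn ⟨hd, e⟩) (by omega)
  · obtain ⟨-, hc', -⟩ := H.conj_iff.2 ⟨w, hxw, hn⟩
    obtain ⟨g, rfl⟩ := isConj_iff.1 hc'
    refine iff_of_true ?_ (by omega)
    rw [show g * z * g⁻¹ * (g * z * g⁻¹) = g * (z * z) * g⁻¹ by group, H.zz, mul_one, mul_inv_cancel]

theorem comm_iff [Finite G] {x y : G} {v w : leechLattice} (hx : Cls z θ x v) (hy : Cls z θ y w) :
    x * y = y * x ↔ (16 : ℤ) ∣ dotInt (v : GolayPt → ℤ) (w : GolayPt → ℤ) := by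
  have sx := H.sq_iff hx
  have sy := H.sq_iff hy
  have sxy := H.sq_iff (H.cls_mul hx hy)
  rw [AddSubgroup.coe_add, sqNorm_add] at sxy
  have hxQ := H.cls_mem hx
  have hyQ := H.cls_mem hy
  obtain ⟨a, ha⟩ := dot_dvd v w
  obtain ⟨b, hb⟩ := leech_even v.2
  obtain ⟨c, hc⟩ := leech_even w.2
  have ne : ∀ {p : G}, p = z → p ≠ 1 := fun {p} h e => H.S.ne_one (h.symm.trans e)
  constructor
  · intro h
    have e : x * y * (x * y) = x * x * (y * y) := by
      rw [show x * y * (x * y) = x * (y * x) * y by group, ← h]; group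
    rcases H.S.sq x hxQ with h1 | h1 <;> rcases H.S.sq y hyQ with h2 | h2 <;> rw [e, h1, h2] at sxy
    · have := sx.1 h1; have := sy.1 h2; have := sxy.1 (one_mul 1); omega
    · have := sx.1 h1; have := mt sy.2 (ne h2); have := mt sxy.2 (ne (one_mul z)); omega
    · have := sy.1 h2; have := mt sx.2 (ne h1); have := mt sxy.2 (ne (mul_one z)); omega
    · have := mt sx.2 (ne h1); have := mt sy.2 (ne h2); have := sxy.1 H.zz; omega
  · intro hd
    by_contra hne
    have h := (H.S.comm_z_left hxQ hyQ).resolve_left hne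
    have hyx : y * x = x * y * z := by rw [h, mul_assoc (y * x) z z, H.zz, mul_one]
    have e : x * y * (x * y) = x * x * (y * y) * z := by
      rw [show x * y * (x * y) = x * (y * x) * y by group, hyx,
        show x * (x * y * z) * y = x * x * y * (z * y) by group, H.z_comm hyQ]; group
    rcases H.S.sq x hxQ with h1 | h1 <;> rcases H.S.sq y hyQ with h2 | h2 <;> rw [e, h1, h2] at sxy
    · have := sx.1 h1; have := sy.1 h2
      have := mt sxy.2 (ne (show (1 : G) * 1 * z = z by group)); omega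
    · have := sx.1 h1; have := mt sy.2 (ne h2)
      have := sxy.1 (by rw [one_mul, H.zz]); omega
    · have := sy.1 h2; have := mt sx.2 (ne h1)
      have := sxy.1 (by rw [mul_one, H.zz]); omega
    · have := mt sx.2 (ne h1); have := mt sy.2 (ne h2)
      have := mt sxy.2 (ne (show z * z * z = z by rw [H.zz, one_mul])); omega

theorem central_pair [Finite G] {t x : G} (htQ : t ∈ Q) (hxQ : x ∈ Q)
    (hx : ∀ y ∈ Q, y * t = t * y → y * x = x * y) : x = 1 ∨ x = z ∨ x = t ∨ x = t * z := by
  by_cases hall : ∀ b ∈ Q, b * x = x * b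
  · rcases H.S.center x hxQ (fun b hb => (hall b hb).symm) with e | e
    exacts [Or.inl e, Or.inr (Or.inl e)]
  push Not at hall
  obtain ⟨b, hbQ, hbx⟩ := hall
  have hbx' := (H.S.comm_z_left hbQ hxQ).resolve_left hbx
  have hbt : b * t = t * b * z := (H.S.comm_z_left hbQ htQ).resolve_left fun e => hbx (hx b hbQ e)
  have key : ∀ a ∈ Q, a * (x * t) = x * t * a := by
    intro a ha
    rcases H.S.comm_z_left ha htQ with e | e
    · rw [← mul_assoc, hx a ha e, mul_assoc, e, ← mul_assoc]
    · -- both anticommute with `b`, so `a * b⁻¹` commutes with `t`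
      have hc : a * b * t = t * (a * b) := by
        calc a * b * t = a * (t * b * z) := by rw [mul_assoc, hbt]
          _ = a * t * (b * z) := by group
          _ = t * a * z * (b * z) := by rw [e]
          _ = t * a * (z * b) * z := by group
          _ = t * a * b * (z * z) := by rw [H.z_comm hbQ]; group
          _ = t * (a * b) := by rw [H.zz, mul_one, mul_assoc]
      have hcx := hx (a * b) (mul_mem ha hbQ) hc
      have hax : a * x = x * a * z := by
        refine (H.S.comm_z_left ha hxQ).resolve_left fun h => hbx ?_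
        refine mul_left_cancel (a := a) ?_
        calc a * (b * x) = a * b * x := (mul_assoc _ _ _).symm
          _ = x * (a * b) := hcx
          _ = a * (x * b) := by rw [← mul_assoc, ← h, mul_assoc]
      calc a * (x * t) = x * a * z * t := by rw [← mul_assoc, hax]
        _ = x * (a * (z * t)) := by group
        _ = x * (a * t * z) := by rw [H.z_comm htQ]; group
        _ = x * (t * a * (z * z)) := by rw [e]; group
        _ = x * t * a := by rw [H.zz, mul_one, mul_assoc]
  rcases H.S.center _ (mul_mem hxQ htQ) (fun a ha => (key a ha).symm) with e | e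
  · rcases H.S.sq t htQ with h | h
    · exact Or.inr (Or.inr (Or.inl ((eq_inv_of_mul_eq_one_left e).trans (inv_eq_of_mul_eq_one_right h))))
    · exact Or.inr (Or.inr (Or.inr ((eq_inv_of_mul_eq_one_left e).trans
        (inv_eq_of_mul_eq_one_right (by rw [← mul_assoc, h, H.zz])))))
  · rcases H.S.sq t htQ with h | h
    · right; right; right
      calc x = x * (t * t) := by rw [h, mul_one]
        _ = z * t := by rw [← mul_assoc, e]
        _ = t * z := H.z_comm htQ
    · right; right; left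
      refine mul_right_cancel (b := t) ?_
      rw [e, h]

end Hyp

end CfsgLib.MonsterQ
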