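import Cfsg.Agent.Lib.Leech.Simple.Co23
import Cfsg.Agent.Lib.Lattice.LeechClasses
import Cfsg.Agent.Lib.Golay.Simple
import Cfsg.Prelude.Def_Spor_Conway

/-! Stabilisers of classes of the Leech lattice modulo two and their normal 2-subgroups. -/

set_option autoImplicit false
set_option linter.style.haveILetI false

namespace CfsgLib.MonsterQ

open Cfsg CfsgLib CfsgLib.Leech
open scoped Pointwise

/-- Congruence modulo twice the lattice. -/
def Cong (v w : leechLattice) : Prop := ∃ u : leechLattice, v - w = u + u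

theorem Cong.refl (v : leechLattice) : Cong v v := ⟨0, by simp⟩

theorem Cong.symm {v w : leechLattice} (h : Cong v w) : Cong w v := by
  obtain ⟨u, hu⟩ := h
  exact ⟨-u, by rw [← neg_sub, hu]; abel⟩

theorem Cong.trans {v w x : leechLattice} (h : Cong v w) (h' : Cong w x) : Cong v x := by
  obtain ⟨u, hu⟩ := h
  obtain ⟨u', hu'⟩ := h'
  exact ⟨u + u', by rw [← sub_add_sub_cancel v w x, hu, hu']; abel⟩

theorem cong_neg (v : leechLattice) : Cong (-v) v := ⟨-v, by abel⟩

theorem Cong.smul {v w : leechLattice} (h : Cong v w) (g : Co0) : Cong (g • v) (g • w) := by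
  obtain ⟨u, hu⟩ := h
  refine ⟨g • u, ?_⟩
  rw [← smul_add', ← hu]
  exact ((toAddHom g).map_sub v w).symm

theorem cong_coe {v w : leechLattice} :
    Cong v w ↔ ∃ u : leechLattice, (v : GolayPt → ℤ) - (w : GolayPt → ℤ) = 2 • (u : GolayPt → ℤ) := by
  constructor
  · rintro ⟨u, hu⟩
    exact ⟨u, by rw [two_nsmul]; exact congrArg Subtype.val hu⟩
  · rintro ⟨u, hu⟩
    exact ⟨u, Subtype.ext (by rw [two_nsmul] at hu; exact hu)⟩

theorem exists_short_cong (v : leechLattice) :
    ∃ w : leechLattice, sqNorm (w : GolayPt → ℤ) ≤ 64 ∧ Cong v w := by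
  obtain ⟨y, hy, hn, u, hu, e⟩ := Lattice.exists_short v.2
  exact ⟨⟨y, hy⟩, hn, cong_coe.2 ⟨⟨u, hu⟩, e⟩⟩

theorem short_norm_cases (v : leechLattice) (hv : v ≠ 0) (h : sqNorm (v : GolayPt → ℤ) ≤ 64) :
    sqNorm (v : GolayPt → ℤ) = 32 ∨ sqNorm (v : GolayPt → ℤ) = 48 ∨ sqNorm (v : GolayPt → ℤ) = 64 := by
  have h1 := leech_min_norm v.2 fun e => hv (Subtype.ext e)
  obtain ⟨q, hq⟩ := leech_even v.2
  omega

theorem not_cong_zero {v : leechLattice} (hv : v ≠ 0) (h : sqNorm (v : GolayPt → ℤ) ≤ 64) :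
    ¬ Cong v 0 := by
  intro hc
  obtain ⟨u, hu⟩ := cong_coe.1 hc
  rw [AddSubgroup.coe_zero, sub_zero] at hu
  have hu0 : (u : GolayPt → ℤ) ≠ 0 := fun e => hv (Subtype.ext (by rw [hu, e]; simp))
  have h1 := leech_min_norm u.2 hu0
  have h2 : sqNorm (v : GolayPt → ℤ) = 4 * sqNorm (u : GolayPt → ℤ) := by
    rw [hu]
    simp only [sqNorm, Finset.mul_sum, Pi.smul_apply, nsmul_eq_mul]
    exact Finset.sum_congr rfl fun i _ => by push_cast; ring
  omega

theorem sqNorm_eq_zero {x : GolayPt → ℤ} (h : sqNorm x = 0) : x = 0 :=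
  funext fun i => pow_eq_zero_iff two_ne_zero |>.1
    ((Finset.sum_eq_zero_iff_of_nonneg fun i _ => sq_nonneg (x i)).1 h i (Finset.mem_univ i))

theorem eq_or_neg_of_cong {v w : leechLattice} (hc : Cong v w)
    (h : sqNorm (v : GolayPt → ℤ) + sqNorm (w : GolayPt → ℤ) < 128) : v = w ∨ v = -w := by
  obtain ⟨u, hu⟩ := cong_coe.1 hc
  by_contra hne
  push Not at hne
  have h1 : (u : GolayPt → ℤ) ≠ 0 := fun e => hne.1 (Subtype.ext (by rw [e, smul_zero] at hu; exact sub_eq_zero.1 hu))
  have h2 : (w : GolayPt → ℤ) + (u : GolayPt → ℤ) ≠ 0 := fun e => hne.2 (Subtype.ext (by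
    have e' := eq_neg_of_add_eq_zero_right e
    rw [NegMemClass.coe_neg, sub_eq_iff_eq_add.1 hu, e']
    abel))
  have A := leech_min_norm u.2 h1
  have B := leech_min_norm (add_mem w.2 u.2) h2
  have hid : 2 * sqNorm (v : GolayPt → ℤ) + 2 * sqNorm (w : GolayPt → ℤ) =
      4 * sqNorm (u : GolayPt → ℤ) + 4 * sqNorm ((w : GolayPt → ℤ) + (u : GolayPt → ℤ)) := by
    rw [sub_eq_iff_eq_add.1 hu, two_nsmul]
    simp only [sqNorm, Finset.mul_sum, ← Finset.sum_add_distrib, Pi.add_apply]
    exact Finset.sum_congr rfl fun i _ => by ring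
  omega

/-- The stabiliser of the class of a vector. -/
def classStab (v : leechLattice) : Subgroup Co0 where
  carrier := {g | Cong (g • v) v}
  one_mem' := by simpa using Cong.refl v
  mul_mem' := fun {g h} hg hh => by
    show Cong ((g * h) • v) v
    rw [mul_smul]
    exact (hh.smul g).trans hg
  inv_mem' := fun {g} hg => by
    show Cong (g⁻¹ • v) v
    have h := Cong.smul hg g⁻¹
    rw [inv_smul_smul] at h
    exact h.symm

theorem mem_classStab {v : leechLattice} {g : Co0} : g ∈ classStab v ↔ Cong (g • v) v := Iff.rfl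

theorem negEl_mem_classStab (v : leechLattice) : negEl ∈ classStab v := by
  rw [mem_classStab, negEl_smul]; exact cong_neg v

theorem center_le_classStab (v : leechLattice) : Subgroup.center Co0 ≤ classStab v := by
  intro g hg
  have : g ∈ ({1, negEl} : Set Co0) := by rw [← center_eq]; exact hg
  rcases this with rfl | h
  · exact one_mem _
  · rw [Set.mem_singleton_iff] at h; subst h; exact negEl_mem_classStab v

theorem classStab_smul (v : leechLattice) (g : Co0) :
    classStab (g • v) = (classStab v).map (MulAut.conj g).toMonoidHom := by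
  ext x
  rw [Subgroup.mem_map_equiv, MulAut.conj_symm_apply, mem_classStab, mem_classStab, mul_smul, mul_smul]
  constructor
  · intro h
    have := h.smul g⁻¹
    rwa [inv_smul_smul] at this
  · intro h
    have := h.smul g
    rwa [smul_inv_smul] at this

theorem mem_stdCross_of_cong {y : leechLattice} (hn : sqNorm (y : GolayPt → ℤ) = 64)
    (h : Cong y (eightVec none)) : (y : GolayPt → ℤ) ∈ stdCross := by
  by_contra hns
  have hzero : ∀ j, (y : GolayPt → ℤ) j = 0 := by
    intro j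
    obtain ⟨wj, hwj⟩ := eightVec_sub_eq_two_nsmul j
    have hd : Cong y (eightVec j) := h.trans (Cong.symm ⟨wj, by rw [hwj, two_nsmul]⟩)
    obtain ⟨u, hu⟩ := cong_coe.1 hd
    rcases cong_short (eightVec j).2 u.2 hu hn (sqNorm_eightVec j) with h | h | h
    · exact absurd (mem_stdCross_iff.2 ⟨j, Or.inl (Subtype.ext h)⟩) hns
    · exact absurd (mem_stdCross_iff.2 ⟨j, Or.inr (Subtype.ext h)⟩) hns
    · rw [coe_eightVec, dotInt_single] at h; omega
  simp [sqNorm, hzero] at hn

theorem classStab_eightVec : classStab (eightVec none) = monoSub := by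
  ext g
  constructor
  · intro hg
    show StdStab g
    rw [stdStab_iff]
    intro i
    obtain ⟨wi, hwi⟩ := eightVec_sub_eq_two_nsmul i
    refine mem_stdCross_of_cong ((sqNorm_smul _ _).trans (sqNorm_eightVec i)) ?_
    exact ((Cong.smul ⟨wi, by rw [hwi, two_nsmul]⟩ g).trans hg)
  · intro hg
    rw [mem_classStab]
    obtain ⟨j, hj | hj⟩ := mem_stdCross_iff.1 ((stdStab_iff g).1 hg none)
    · obtain ⟨w, hw⟩ := eightVec_sub_eq_two_nsmul j
      rw [hj]; exact ⟨w, by rw [hw, two_nsmul]⟩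
    · obtain ⟨w, hw⟩ := eightVec_sub_eq_two_nsmul j
      rw [hj]; exact (cong_neg _).trans ⟨w, by rw [hw, two_nsmul]⟩

/-- A 2-subgroup of order at least four cannot be normal in the stabiliser of a class of norm 32 or 48. -/
theorem le_center_of_normal {v : leechLattice}
    (hn : sqNorm (v : GolayPt → ℤ) = 32 ∨ sqNorm (v : GolayPt → ℤ) = 48)
    (K : Subgroup Co0) (hK : IsPGroup 2 K) (hle : K ≤ classStab v)
    (hnorm : classStab v ≤ Subgroup.normalizer (K : Set Co0)) : K ≤ Subgroup.center Co0 := by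
  have hlt : sqNorm (v : GolayPt → ℤ) + sqNorm (v : GolayPt → ℤ) < 128 := by omega
  have hv0 : v ≠ 0 := by
    rintro rfl
    simp [sqNorm] at hn
  have hcases : ∀ g ∈ classStab v, g • v = v ∨ g • v = -v := fun g hg =>
    eq_or_neg_of_cong hg (by rw [sqNorm_smul]; exact hlt)
  have hsub : MulAction.stabilizer Co0 v ≤ classStab v := fun g hg => by
    rw [mem_classStab, MulAction.mem_stabilizer_iff.1 hg]; exact Cong.refl v
  obtain ⟨hsimple, hlarge⟩ : IsSimpleGroup (MulAction.stabilizer Co0 v) ∧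
      ∀ k, Nat.card (MulAction.stabilizer Co0 v) ≠ 2 ^ k := by
    have hodd : ∀ {N : ℕ}, 3 ∣ N → ∀ k, N ≠ 2 ^ k := fun h k e => by
      subst e
      exact absurd (Nat.Prime.dvd_of_dvd_pow Nat.prime_three h) (by norm_num)
    rcases hn with hn | hn
    · exact ⟨(isCo2_stabilizer hn).1, hodd (by rw [card_stabilizer32 hn]; norm_num)⟩
    · exact ⟨(isCo3_stabilizer hn).1, hodd (by rw [card_stabilizer48 hn]; norm_num)⟩
  let K' := K.subgroupOf (MulAction.stabilizer Co0 v)
  haveI hK'n : K'.Normal := ⟨fun x hx g => by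
    show (g : Co0) * (x : Co0) * (g : Co0)⁻¹ ∈ K
    exact (Subgroup.mem_normalizer_iff.1 (hnorm (hsub g.2)) _).1 hx⟩
  have hbot : K' = ⊥ := by
    refine (hsimple.eq_bot_or_eq_top_of_normal _ hK'n).resolve_right fun htop => ?_
    haveI : Fact (Nat.Prime 2) := ⟨Nat.prime_two⟩
    have h2 : IsPGroup 2 (MulAction.stabilizer Co0 v) :=
      hK.to_le (Subgroup.subgroupOf_eq_top.1 htop)
    obtain ⟨k, hk⟩ := IsPGroup.iff_card.1 h2
    exact hlarge k hk
  have hstab : ∀ x ∈ K, x • v = v → x = 1 := fun x hx hfix => by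
    have : (⟨x, hfix⟩ : MulAction.stabilizer Co0 v) ∈ K' := hx
    rw [hbot, Subgroup.mem_bot] at this
    exact congrArg Subtype.val this
  intro x hx
  rcases hcases x (hle hx) with h | h
  · rw [hstab x hx h]; exact one_mem _
  · -- every member negating the vector is central among the members of K: compare conjugates
    have hxx : x * x = 1 := hstab _ (mul_mem hx hx) (by rw [mul_smul, h, smul_neg', h, neg_neg])
    have hcomm : ∀ g ∈ MulAction.stabilizer Co0 v, g * x = x * g := fun g hg => by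
      have hc : g * x * g⁻¹ ∈ K := (Subgroup.mem_normalizer_iff.1 (hnorm (hsub hg)) _).1 hx
      have hm : g * x * g⁻¹ * x ∈ K := mul_mem hc hx
      have hgv : g • v = v := hg
      have hgi : g⁻¹ • v = v := inv_smul_eq_iff.2 hgv.symm
      have : g * x * g⁻¹ * x = 1 := hstab _ hm (by
        rw [mul_smul, mul_smul, mul_smul, h, smul_neg', hgi, smul_neg', h, neg_neg, hgv])
      have e := eq_inv_of_mul_eq_one_left this
      rw [inv_eq_of_mul_eq_one_right hxx] at e
      rwa [mul_inv_eq_iff_eq_mul] at e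
    have hne : x * negEl ∈ MulAction.stabilizer Co0 v := by
      rw [MulAction.mem_stabilizer_iff, mul_smul, negEl_smul, smul_neg', h, neg_neg]
    have hy : (⟨x * negEl, hne⟩ : MulAction.stabilizer Co0 v) ∈ Subgroup.center _ :=
      Subgroup.mem_center_iff.2 fun g => Subtype.ext (by
        show (g : Co0) * (x * negEl) = x * negEl * (g : Co0)
        rw [← mul_assoc, hcomm g g.2, mul_assoc, mul_assoc, negEl_comm])
    have hcb : Subgroup.center (MulAction.stabilizer Co0 v) = ⊥ := by
      refine (hsimple.eq_bot_or_eq_top_of_normal _ inferInstance).resolve_right fun htop => ?_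
      haveI : Fact (Nat.Prime 2) := ⟨Nat.prime_two⟩
      haveI := hsimple
      have hc : ∀ a b : MulAction.stabilizer Co0 v, a * b = b * a := fun a b =>
        Subgroup.mem_center_iff.1 (htop ▸ Subgroup.mem_top b : b ∈ Subgroup.center _) a
      letI : CommGroup (MulAction.stabilizer Co0 v) := { (inferInstance : Group _) with mul_comm := hc }
      have hp := IsSimpleGroup.prime_card (α := MulAction.stabilizer Co0 v)
      rcases hn with hn | hn
      · rw [card_stabilizer32 hn] at hp; norm_num at hp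
      · rw [card_stabilizer48 hn] at hp; norm_num at hp
    rw [hcb, Subgroup.mem_bot] at hy
    have e := congrArg Subtype.val hy
    simp only [OneMemClass.coe_one] at e
    rw [eq_inv_of_mul_eq_one_left e]
    exact inv_mem (show negEl ∈ Subgroup.center Co0 from Set.ext_iff.1 center_eq negEl |>.2 (Or.inr rfl))

/-- The sign changes. -/
def diagHom : Multiplicative golayCode →* Co0 where
  toFun c := monoEl 1 (one_mem _) (c.toAdd : GolayPt → ZMod 2) c.toAdd.2
  map_one' := monoEl_one
  map_mul' a b := by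
    rw [monoEl_mul]
    refine monoEl_congr (one_mul 1).symm (funext fun i => ?_)
    simp

theorem diagHom_injective : Function.Injective diagHom := by
  intro a b h
  have := monoMap_injective (a₁ := (⟨1, one_mem _⟩, a.toAdd)) (a₂ := (⟨1, one_mem _⟩, b.toAdd)) h
  exact congrArg Prod.snd this

/-- The permutation part of a monomial element. -/
def permHom : M24 →* Co0 where
  toFun τ := monoEl (τ : Equiv.Perm GolayPt)⁻¹ (inv_mem τ.2) 0 (zero_mem _)
  map_one' := (monoEl_congr (by simp) rfl).trans monoEl_one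
  map_mul' a b := by
    rw [monoEl_mul]
    exact monoEl_congr (by simp) (funext fun i => by simp)

theorem permHom_injective : Function.Injective permHom := by
  intro a b h
  have := monoMap_injective (a₁ := (⟨_, inv_mem a.2⟩, 0)) (a₂ := (⟨_, inv_mem b.2⟩, 0)) h
  exact Subtype.ext (inv_injective (congrArg (fun p => ((p.1 : M24) : Equiv.Perm GolayPt)) this))

theorem monoEl_decomp {τ : Equiv.Perm GolayPt} (hτ : τ ∈ M24) {c : GolayPt → ZMod 2} (hc : c ∈ golayCode) :
    monoEl τ hτ c hc = diagHom (Multiplicative.ofAdd ⟨c, hc⟩) * permHom ⟨τ⁻¹, inv_mem hτ⟩ := by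
  show _ = monoEl 1 (one_mem _) c hc * monoEl (τ⁻¹)⁻¹ (inv_mem (inv_mem hτ)) 0 (zero_mem _)
  rw [monoEl_mul]
  exact monoEl_congr (by simp) (funext fun i => by simp)

theorem diagHom_range_le : diagHom.range ≤ monoSub := by
  rintro _ ⟨c, rfl⟩; exact monoEl_mem_monoSub (one_mem _) c.toAdd.2

theorem permHom_range_le : permHom.range ≤ monoSub := by
  rintro _ ⟨c, rfl⟩; exact monoEl_mem_monoSub (inv_mem c.2) (zero_mem _)

theorem diag_inf_perm : diagHom.range ⊓ permHom.range = ⊥ := by
  rw [eq_bot_iff]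
  rintro _ ⟨⟨c, rfl⟩, ⟨τ, hτ⟩⟩
  have := monoMap_injective (a₁ := (⟨_, inv_mem τ.2⟩, 0)) (a₂ := (⟨1, one_mem _⟩, c.toAdd)) hτ
  rw [Subgroup.mem_bot, show c = 1 from (congrArg Prod.snd this).symm, map_one]

theorem monoSub_conj_diag {g : Co0} (hg : g ∈ monoSub) {d : Co0} (hd : d ∈ diagHom.range) :
    g * d * g⁻¹ ∈ diagHom.range := by
  obtain ⟨τ, hτ, c, hc, rfl⟩ := exists_mono_of_stdStab hg
  obtain ⟨e, rfl⟩ := hd
  show monoEl τ hτ c hc * monoEl 1 (one_mem _) (e.toAdd : GolayPt → ZMod 2) e.toAdd.2 * (monoEl τ hτ c hc)⁻¹ ∈ _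
  rw [monoEl_inv, monoEl_mul, monoEl_mul]
  have hm : c + (e.toAdd : GolayPt → ZMod 2) ∘ ⇑τ + (c ∘ ⇑τ⁻¹) ∘ ⇑(1 * τ) ∈ golayCode :=
    golayCode.add_mem (golayCode.add_mem hc (mem_supports_comp hτ e.toAdd.2))
      (mem_supports_comp (mul_mem (one_mem _) hτ) (mem_supports_comp (inv_mem hτ) hc))
  exact ⟨Multiplicative.ofAdd ⟨_, hm⟩, monoEl_congr (ha := one_mem _) (hc := hm) (by simp) rfl⟩

/-- A normal 2-subgroup of the monomial group consists of sign changes. -/
theorem le_diag_of_normal (K : Subgroup Co0) (hK : IsPGroup 2 K) (hle : K ≤ monoSub)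
    (hnorm : monoSub ≤ Subgroup.normalizer (K : Set Co0)) : K ≤ diagHom.range := by
  let P : Subgroup M24 := (K ⊔ diagHom.range).comap permHom
  have hsup_le : K ⊔ diagHom.range ≤ monoSub := sup_le hle diagHom_range_le
  have hdn : monoSub ≤ Subgroup.normalizer (diagHom.range : Set Co0) := fun g hg =>
    Subgroup.mem_normalizer_iff.2 fun d => ⟨fun hd => monoSub_conj_diag hg hd, fun hd => by
      have := monoSub_conj_diag (inv_mem hg) hd
      simpa [mul_assoc] using this⟩
  have hset : ((K ⊔ diagHom.range : Subgroup Co0) : Set Co0) = (K : Set Co0) * (diagHom.range : Set Co0) :=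
    (Subgroup.coe_mul_of_left_le_normalizer_right _ _ (hle.trans hdn))
  have hconj : ∀ g ∈ monoSub, ∀ x ∈ K ⊔ diagHom.range, g * x * g⁻¹ ∈ K ⊔ diagHom.range := by
    intro g hg x hx
    rw [← SetLike.mem_coe, hset] at hx
    obtain ⟨k, hk, d, hd, rfl⟩ := hx
    have e : g * (k * d) * g⁻¹ = (g * k * g⁻¹) * (g * d * g⁻¹) := by group
    rw [e]
    exact mul_mem (Subgroup.mem_sup_left ((Subgroup.mem_normalizer_iff.1 (hnorm hg) _).1 hk))
      (Subgroup.mem_sup_right (monoSub_conj_diag hg hd))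
  haveI hPn : P.Normal := ⟨fun x hx g => by
    show permHom (g * x * g⁻¹) ∈ K ⊔ diagHom.range
    rw [map_mul, map_mul, map_inv]
    exact hconj _ (permHom_range_le ⟨g, rfl⟩) _ hx⟩
  have hPbot : P = ⊥ := by
    refine (Golay.isSimple_M24.eq_bot_or_eq_top_of_normal _ hPn).resolve_right fun htop => ?_
    haveI : Fact (Nat.Prime 2) := ⟨Nat.prime_two⟩
    haveI : Fact (Nat.Prime 3) := ⟨Nat.prime_three⟩
    obtain ⟨σ, hσ⟩ := exists_prime_orderOf_dvd_card' (G := M24) 3 (by rw [Golay.card_M24]; norm_num)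
    have hm : permHom σ ∈ K ⊔ diagHom.range := (htop ▸ Subgroup.mem_top σ : σ ∈ P)
    have hD2 : IsPGroup 2 diagHom.range := by
      refine IsPGroup.of_card (n := 12) ?_
      rw [← Nat.card_congr (MonoidHom.ofInjective diagHom_injective).toEquiv, Nat.card_congr Multiplicative.toAdd,
        Golay.card_golay]
    have h2 : IsPGroup 2 (K ⊔ diagHom.range : Subgroup Co0) :=
      hK.to_sup_of_normal_right' hD2 (hle.trans hdn)
    obtain ⟨n, hn⟩ := h2 ⟨_, hm⟩
    have hn' := congrArg Subtype.val hn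
    simp only [SubgroupClass.coe_pow, OneMemClass.coe_one, ← map_pow] at hn'
    have : σ ^ 2 ^ n = 1 := permHom_injective (hn'.trans (map_one _).symm)
    have hd := orderOf_dvd_of_pow_eq_one this
    rw [hσ] at hd
    exact absurd (Nat.Prime.dvd_of_dvd_pow Nat.prime_three hd) (by norm_num)
  intro k hk
  obtain ⟨τ, hτ, c, hc, hkeq⟩ := exists_mono_of_stdStab (hle hk)
  rw [monoEl_decomp] at hkeq
  have hp : (⟨τ⁻¹, inv_mem hτ⟩ : M24) ∈ P := by
    show permHom _ ∈ K ⊔ diagHom.range
    rw [show permHom ⟨τ⁻¹, inv_mem hτ⟩ = (diagHom (Multiplicative.ofAdd ⟨c, hc⟩))⁻¹ * k by rw [hkeq]; group]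
    exact mul_mem (Subgroup.mem_sup_right (inv_mem ⟨_, rfl⟩)) (Subgroup.mem_sup_left hk)
  rw [hPbot, Subgroup.mem_bot] at hp
  rw [hkeq, hp, map_one, mul_one]
  exact ⟨_, rfl⟩

end CfsgLib.MonsterQ
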