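import Cfsg.Agent.Lib.MonsterQ.Pair

/-! Conjugates of the central involution and the involutions of `Q`. -/

set_option autoImplicit false
set_option linter.style.haveILetI false

namespace CfsgLib.MonsterQ

open Cfsg CfsgLib CfsgLib.Leech

variable {G : Type*} [Group G]

namespace Hyp

variable {z : G} {Q : Subgroup G} {π : ↥(Subgroup.centralizer ({z} : Set G)) →* Spor.Co1}
  {θ : leechLattice → G} (H : Hyp z Q π θ)
include H

theorem class_of_conj [Finite G] {x : G} (hx : x ∈ Q) (hc : IsConj z x) (hne : x ≠ z) :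
    ∃ v, Cls z θ x v ∧ sqNorm (v : GolayPt → ℤ) = 64 := by
  obtain ⟨g, rfl⟩ := isConj_iff.1 hc
  exact H.exists_class hx hne

theorem conj_iff [Finite G] {x : G} :
    (x ∈ Q ∧ IsConj z x ∧ x ≠ z) ↔ ∃ v, Cls z θ x v ∧ sqNorm (v : GolayPt → ℤ) = 64 := by
  refine ⟨fun h => H.class_of_conj h.1 h.2.1 h.2.2, ?_⟩
  rintro ⟨v, hv, h64⟩
  obtain ⟨s, hsQ, hs, hsne⟩ := H.nwc
  obtain ⟨w, hw, hw64⟩ := H.class_of_conj hsQ hs hsne
  obtain ⟨h, hh, rfl⟩ := H.conj_of_norm (Or.inr (Or.inr rfl)) hw hv hw64 h64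
  refine ⟨H.cls_mem hv, hs.trans (isConj_iff.2 ⟨h, rfl⟩), fun e => ?_⟩
  exact H.norm_ne_zero (Or.inr (Or.inr h64)) ((H.noncentral hv).1 (Or.inr e))

theorem sq_congr {x y : G} {v : leechLattice} (hx : Cls z θ x v) (hy : Cls z θ y v) :
    x * x = y * y := by
  rcases H.eq_of_cls hx hy with e | e <;> rw [e]
  rw [show x * z * (x * z) = x * (z * x) * z by group, H.z_comm (H.cls_mem hx), ← mul_assoc,
    mul_assoc (x * x) z z, H.zz, mul_one]

/-- A class of norm 32 and a class of norm 48 cannot both contain involutions. -/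
theorem not_both [Finite G] {x y : G} {v w : leechLattice} (hx : Cls z θ x v) (hy : Cls z θ y w)
    (hv : sqNorm (v : GolayPt → ℤ) = 32) (hw : sqNorm (w : GolayPt → ℤ) = 48) :
    ¬ (x * x = 1 ∧ y * y = 1) := by
  rintro ⟨hxx, hyy⟩
  have hall : ∀ q ∈ Q, q * q = 1 := by
    intro q hq
    by_cases h1 : q = 1
    · rw [h1, one_mul]
    by_cases h2 : q = z
    · rw [h2, H.zz]
    obtain ⟨u, hu, hn⟩ := H.exists_short hq h1 h2
    have tr : ∀ (a : G) (c : leechLattice) (N : ℤ), (N = 32 ∨ N = 48 ∨ N = 64) → Cls z θ a c →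
        sqNorm (c : GolayPt → ℤ) = N → sqNorm (u : GolayPt → ℤ) = N → a * a = 1 → q * q = 1 := by
      intro a c N hN ha hc hq' haa
      obtain ⟨h, -, rfl⟩ := H.conj_of_norm hN ha hu hc hq'
      rw [show h * a * h⁻¹ * (h * a * h⁻¹) = h * (a * a) * h⁻¹ by group, haa, mul_one, mul_inv_cancel]
    rcases hn with hn | hn | hn
    · exact tr x v 32 (Or.inl rfl) hx hv hn hxx
    · exact tr y w 48 (Or.inr (Or.inl rfl)) hy hw hn hyy
    · obtain ⟨hqQ, hqc, -⟩ := H.conj_iff.2 ⟨u, hu, hn⟩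
      obtain ⟨g, rfl⟩ := isConj_iff.1 hqc
      rw [show g * z * g⁻¹ * (g * z * g⁻¹) = g * (z * z) * g⁻¹ by group, H.zz, mul_one, mul_inv_cancel]
  obtain ⟨s, hsQ, hs, hsne⟩ := H.nwc
  have hs1 : s ≠ 1 := fun e => by
    obtain ⟨g, hg⟩ := isConj_iff.1 hs
    exact (H.s_facts (g := g) (by rw [hg]; exact hsne)).1 (by rw [hg, e])
  obtain ⟨q, hq, hqs⟩ := H.exists_flip hsQ hs1 hsne
  have a := hall q hq
  have b := hall s hsQ
  have c := hall (q * s) (mul_mem hq hsQ)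
  rw [inv_eq_of_mul_eq_one_right a] at hqs
  have : q * s * q = s := (eq_inv_of_mul_eq_one_left (show (q * s * q) * s = 1 by
    rw [mul_assoc]; exact c)).trans (inv_eq_of_mul_eq_one_right b)
  rw [this] at hqs
  exact H.S.ne_one (left_eq_mul.1 hqs)

theorem other_class [Finite G] {x : G} (hx : x ∈ Q) (h2 : orderOf x = 2) (hnc : ¬ IsConj z x) :
    ∃ v, Cls z θ x v ∧ (sqNorm (v : GolayPt → ℤ) = 32 ∨ sqNorm (v : GolayPt → ℤ) = 48) := by
  have h1 : x ≠ 1 := fun e => by rw [e, orderOf_one] at h2; omega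
  have hz : x ≠ z := fun e => hnc (e ▸ IsConj.refl x)
  obtain ⟨v, hv, hn⟩ := H.exists_short hx h1 hz
  refine ⟨v, hv, ?_⟩
  rcases hn with hn | hn | hn
  · exact Or.inl hn
  · exact Or.inr hn
  · exact absurd (H.conj_iff.2 ⟨v, hv, hn⟩).2.1 hnc

theorem others_conj [Finite G] {x y : G} (hx : x ∈ Q) (hy : y ∈ Q) (hx2 : orderOf x = 2) (hy2 : orderOf y = 2)
    (hxn : ¬ IsConj z x) (hyn : ¬ IsConj z y) :
    ∃ h ∈ Subgroup.centralizer ({z} : Set G), h * x * h⁻¹ = y := by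
  have sq1 : ∀ {a : G}, orderOf a = 2 → a * a = 1 := fun {a} h => by
    rw [← pow_two, ← h, pow_orderOf_eq_one]
  obtain ⟨v, hv, hn⟩ := H.other_class hx hx2 hxn
  obtain ⟨w, hw, hm⟩ := H.other_class hy hy2 hyn
  rcases hn with hn | hn <;> rcases hm with hm | hm
  · exact H.conj_of_norm (Or.inl rfl) hv hw hn hm
  · exact absurd ⟨sq1 hx2, sq1 hy2⟩ (H.not_both hv hw hn hm)
  · exact absurd ⟨sq1 hy2, sq1 hx2⟩ (H.not_both hw hv hm hn)
  · exact H.conj_of_norm (Or.inr (Or.inl rfl)) hv hw hn hm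

end Hyp

/-- The data in the frozen hypothesis, unbundled. -/
theorem of_monsterType [Finite G] {z : G} {Q : Subgroup ↥(Subgroup.centralizer ({z} : Set G))} [Q.Normal]
    (hM : Cfsg.IsOfMonsterType z Q) :
    ∃ (e : ↥(Subgroup.centralizer ({z} : Set G)) ⧸ Q ≃* Spor.Co1) (θ : leechLattice → G),
      Hyp z (Q.map (Subgroup.centralizer ({z} : Set G)).subtype) (e.toMonoidHom.comp (QuotientGroup.mk' Q)) θ := by
  obtain ⟨hS, e, ψ, hψ⟩ := hM
  obtain ⟨θ, hH, -⟩ := exists_hyp hS e ψ hψ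
  exact ⟨e, θ, hH⟩

theorem mem_map_of_exists {z x : G} {Q : Subgroup ↥(Subgroup.centralizer ({z} : Set G))}
    (h : ∃ hc : x ∈ Subgroup.centralizer ({z} : Set G), (⟨x, hc⟩ : Subgroup.centralizer ({z} : Set G)) ∈ Q) :
    x ∈ Q.map (Subgroup.centralizer ({z} : Set G)).subtype :=
  ⟨⟨x, h.1⟩, h.2, rfl⟩

end CfsgLib.MonsterQ
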