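import Cfsg.Agent.Lib.MonsterQ.Setting

/-! A conjugate of the central involution inside the extraspecial subgroup. -/

set_option autoImplicit false
set_option linter.style.haveILetI false

namespace CfsgLib.MonsterQ

open Cfsg CfsgLib CfsgLib.Leech

variable {G : Type*} [Group G]

theorem mem_conjQ {Q : Subgroup G} {g x : G} :
    x ∈ Q.map (MulAut.conj g).toMonoidHom ↔ g⁻¹ * x * g ∈ Q := by
  rw [Subgroup.mem_map_equiv, MulAut.conj_symm_apply]

/-- The map from the automorphism group of the lattice conjugated by an element. -/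
def toCo1 (g' : Co0) : Co0 →* Spor.Co1 :=
  (QuotientGroup.mk' (Subgroup.center Co0)).comp (MulAut.conj g').toMonoidHom

theorem toCo1_surjective (g' : Co0) : Function.Surjective (toCo1 g') :=
  (QuotientGroup.mk'_surjective _).comp (MulAut.conj g').surjective

theorem toCo1_ker (g' : Co0) : (toCo1 g').ker = Subgroup.center Co0 := by
  ext x
  rw [MonoidHom.mem_ker]
  show (QuotientGroup.mk (g' * x * g'⁻¹) : Spor.Co1) = 1 ↔ _
  rw [QuotientGroup.eq_one_iff]
  constructor
  · intro h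
    have := (Subgroup.Normal.conj_mem (inferInstance : (Subgroup.center Co0).Normal) _ h g'⁻¹)
    rwa [show g'⁻¹ * (g' * x * g'⁻¹) * g'⁻¹⁻¹ = x by group] at this
  · exact fun h => Subgroup.Normal.conj_mem inferInstance x h g'

theorem card_comap_toCo1 (g' : Co0) (R : Subgroup Spor.Co1) :
    Nat.card (R.comap (toCo1 g')) = 2 * Nat.card R := by
  have h1 := Subgroup.card_mul_index (R.comap (toCo1 g'))
  have h2 := Subgroup.card_mul_index R
  rw [Subgroup.index_comap_of_surjective R (toCo1_surjective g')] at h1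
  have h3 : Nat.card Co0 = 2 * Nat.card Spor.Co1 := by
    have h := Subgroup.card_eq_card_quotient_mul_card_subgroup (Subgroup.center Co0)
    rw [card_center] at h
    rw [h, mul_comm]
  rw [h3, ← h2, ← mul_assoc] at h1
  exact Nat.eq_of_mul_eq_mul_right (Nat.pos_of_ne_zero Subgroup.index_ne_zero_of_finite) h1

theorem card_Co1' : Nat.card Spor.Co1 = 4157776806543360000 := by
  have h := Subgroup.card_eq_card_quotient_mul_card_subgroup (Subgroup.center Co0)
  rw [card_Co0, card_center] at h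
  show Nat.card (Co0 ⧸ Subgroup.center Co0) = _
  omega

theorem card_diag : Nat.card diagHom.range = 4096 := by
  rw [← Nat.card_congr (MonoidHom.ofInjective diagHom_injective).toEquiv, Nat.card_congr Multiplicative.toAdd,
    Golay.card_golay]
  norm_num

theorem center_le_diag : Subgroup.center Co0 ≤ diagHom.range := by
  intro g hg
  have : g ∈ ({1, negEl} : Set Co0) := by rw [← center_eq]; exact hg
  rcases this with rfl | h
  · exact one_mem _
  · rw [Set.mem_singleton_iff] at h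
    rw [h, negEl_eq_monoEl]
    exact ⟨Multiplicative.ofAdd ⟨1, Golay.one_mem_golay⟩, rfl⟩

namespace Hyp

variable {z : G} {Q : Subgroup G} {π : ↥(Subgroup.centralizer ({z} : Set G)) →* Spor.Co1}
  {θ : leechLattice → G} (H : Hyp z Q π θ)

/-- The image of `Q^g ∩ C(z)` in the Conway group. -/
def rImage (π : ↥(Subgroup.centralizer ({z} : Set G)) →* Spor.Co1) (Q : Subgroup G) (g : G) : Subgroup Spor.Co1 :=
  ((Q.map (MulAut.conj g).toMonoidHom ⊓ Subgroup.centralizer ({z} : Set G)).subgroupOf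
    (Subgroup.centralizer ({z} : Set G))).map π

/-- The image of `C(z) ∩ C(s)` in the Conway group. -/
def xImage (π : ↥(Subgroup.centralizer ({z} : Set G)) →* Spor.Co1) (s : G) : Subgroup Spor.Co1 :=
  ((Subgroup.centralizer ({z} : Set G) ⊓ Subgroup.centralizer ({s} : Set G)).subgroupOf
    (Subgroup.centralizer ({z} : Set G))).map π

include H

theorem s_facts {g : G} (hgne : g * z * g⁻¹ ≠ z) :
    g * z * g⁻¹ ≠ 1 ∧ g * z * g⁻¹ * (g * z * g⁻¹) = 1 := by
  refine ⟨fun e => ?_, by rw [show g * z * g⁻¹ * (g * z * g⁻¹) = g * (z * z) * g⁻¹ by group, H.zz]; group⟩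
  rw [mul_inv_eq_one, mul_eq_left] at e
  exact H.S.ne_one e

theorem conjQ_mem_s (g : G) : g * z * g⁻¹ ∈ Q.map (MulAut.conj g).toMonoidHom :=
  mem_conjQ.2 (by rw [show g⁻¹ * (g * z * g⁻¹) * g = z by group]; exact H.S.mem)

theorem conjQ_comm {g a b : G} (ha : a ∈ Q.map (MulAut.conj g).toMonoidHom)
    (hb : b ∈ Q.map (MulAut.conj g).toMonoidHom) : a * b = b * a ∨ a * b = b * a * (g * z * g⁻¹) := by
  rw [mem_conjQ] at ha hb
  rcases H.S.comm_z_left ha hb with h | h
  · left
    calc a * b = g * ((g⁻¹ * a * g) * (g⁻¹ * b * g)) * g⁻¹ := by group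
      _ = b * a := by rw [h]; group
  · right
    calc a * b = g * ((g⁻¹ * a * g) * (g⁻¹ * b * g)) * g⁻¹ := by group
      _ = b * a * (g * z * g⁻¹) := by rw [h]; group

theorem centralizer_le_normalizer_conjQ {g y : G} (hy : y ∈ Subgroup.centralizer ({g * z * g⁻¹} : Set G))
    {x : G} (hx : x ∈ Q.map (MulAut.conj g).toMonoidHom) :
    y * x * y⁻¹ ∈ Q.map (MulAut.conj g).toMonoidHom := by
  rw [mem_conjQ] at hx ⊢
  have hyc := Subgroup.mem_centralizer_singleton_iff.1 hy
  have := H.S.normal (g⁻¹ * y * g) (by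
    calc g⁻¹ * y * g * z = g⁻¹ * (y * (g * z * g⁻¹)) * g := by group
      _ = z * (g⁻¹ * y * g) := by rw [hyc]; group) _ hx
  rwa [show g⁻¹ * (y * x * y⁻¹) * g = g⁻¹ * y * g * (g⁻¹ * x * g) * (g⁻¹ * y * g)⁻¹ by group]

theorem card_cent {g : G} (hgQ : g * z * g⁻¹ ∈ Q) (hgne : g * z * g⁻¹ ≠ z) :
    Nat.card ↥(Q ⊓ Subgroup.centralizer ({g * z * g⁻¹} : Set G)) = 2 ^ 24 := by
  obtain ⟨k, hk, hQk, h2⟩ := H.card_inf_centralizer le_rfl hgQ
  obtain ⟨q, hq, hqs⟩ := H.exists_flip hgQ (H.s_facts hgne).1 hgne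
  have hk2 := h2 ⟨q, hq, fun e => by
    rw [e, mul_inv_cancel_right] at hqs
    exact H.S.ne_one (left_eq_mul.1 hqs)⟩
  rw [H.card, hk2] at hQk
  omega

theorem z_mem [Finite G] {g : G} (hgQ : g * z * g⁻¹ ∈ Q) (hgne : g * z * g⁻¹ ≠ z) :
    z ∈ Q.map (MulAut.conj g).toMonoidHom := by
  classical
  set s := g * z * g⁻¹ with hs
  set A := Q ⊓ Subgroup.centralizer ({s} : Set G) with hA
  set Qs := Q.map (MulAut.conj g).toMonoidHom
  obtain ⟨hs1, hss⟩ := H.s_facts hgne
  have hc : ∀ a : ↥A, g⁻¹ * (a : G) * g ∈ Subgroup.centralizer ({z} : Set G) := fun a => by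
    rw [Subgroup.mem_centralizer_singleton_iff]
    have h := Subgroup.mem_centralizer_singleton_iff.1 (show (a : G) ∈ Subgroup.centralizer ({s} : Set G) from a.2.2)
    calc g⁻¹ * (a : G) * g * z = g⁻¹ * ((a : G) * s) * g := by rw [hs]; group
      _ = z * (g⁻¹ * (a : G) * g) := by rw [h, hs]; group
  let f : ↥A →* Spor.Co1 := π.comp (MonoidHom.mk' (fun a => ⟨g⁻¹ * (a : G) * g, hc a⟩) fun a b =>
    Subtype.ext (by simp only [Subgroup.coe_mul]; group))
  have hker : f.ker = (A ⊓ Qs).subgroupOf A := by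
    ext a
    rw [MonoidHom.mem_ker, Subgroup.mem_subgroupOf, Subgroup.mem_inf, mem_conjQ]
    exact ⟨fun h => ⟨a.2, (H.ker _).1 h⟩, fun h => (H.ker _).2 h.2⟩
  by_contra hz
  obtain ⟨x, hx, hxs⟩ : ∃ x ∈ A ⊓ Qs, x ∉ Subgroup.zpowers s := by
    by_contra hall
    push Not at hall
    have h1 : Nat.card ↥(A ⊓ Qs) ≤ 2 := le_of_le_of_eq (Subgroup.card_le_of_le hall) (by
      rw [Nat.card_zpowers, show s = (MulAut.conj g).toMonoidHom z from rfl,
        orderOf_injective _ (MulAut.conj g).injective, H.hz])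
    have h2 := Subgroup.card_mul_index f.ker
    rw [Subgroup.index_ker, hker, Nat.card_congr (Subgroup.subgroupOfEquivOfLe inf_le_left).toEquiv,
      H.card_cent hgQ hgne] at h2
    have h3 : Nat.card f.range ∣ Nat.card Spor.Co1 := Subgroup.card_subgroup_dvd_card _
    rw [card_Co1'] at h3
    have h4 : 0 < Nat.card ↥(A ⊓ Qs) := Nat.card_pos
    rcases (show Nat.card ↥(A ⊓ Qs) = 1 ∨ Nat.card ↥(A ⊓ Qs) = 2 by omega) with e | e <;> rw [e] at h2
    · rw [one_mul] at h2; rw [h2] at h3; norm_num at h3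
    · rw [show Nat.card f.range = 2 ^ 23 by omega] at h3; norm_num at h3
  obtain ⟨⟨hxQ, hxc⟩, hxQs⟩ := hx
  have hx1 : x ≠ 1 := fun e => hxs (e ▸ one_mem _)
  have hxz : x ≠ z := fun e => hz (e ▸ hxQs)
  by_cases hy : ∃ y ∈ A, y * x ≠ x * y
  · obtain ⟨y, hy, hne⟩ := hy
    have h := mul_mem (H.centralizer_le_normalizer_conjQ hy.2 hxQs) (inv_mem hxQs)
    rw [(H.S.comm_z_left hy.1 hxQ).resolve_left hne,
      show x * y * z * y⁻¹ * x⁻¹ = x * (y * z * y⁻¹) * x⁻¹ by group,
      H.S.le_cent y hy.1, mul_inv_cancel_right, H.S.le_cent x hxQ, mul_inv_cancel_right] at h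
    exact hz h
  · push Not at hy
    have hall : ∀ b ∈ Q, x * s * b = b * (x * s) := by
      intro b hb
      rcases H.S.comm_z_left hb hgQ with h | h
      · have hbA : b ∈ A := ⟨hb, Subgroup.mem_centralizer_singleton_iff.2 h⟩
        calc x * s * b = x * (b * s) := by rw [mul_assoc, h]
          _ = b * (x * s) := by rw [← mul_assoc, ← hy b hbA, mul_assoc]
      · have hbx : b * x = x * b * z := by
          refine (H.S.comm_z_left hb hxQ).resolve_left fun e => ?_
          obtain ⟨k, hk, hQk, h2⟩ := H.card_inf_centralizer le_rfl hxQ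
          have hle : A ⊔ Subgroup.zpowers b ≤ Q ⊓ Subgroup.centralizer ({x} : Set G) :=
            sup_le (le_inf inf_le_left fun a ha => Subgroup.mem_centralizer_singleton_iff.2 (hy a ha))
              ((Subgroup.zpowers_le).2 ⟨hb, Subgroup.mem_centralizer_singleton_iff.2 e⟩)
          have hlt : A < A ⊔ Subgroup.zpowers b := lt_of_le_of_ne le_sup_left fun e' => by
            have hbA : b ∈ A := e' ▸ Subgroup.mem_sup_right (Subgroup.mem_zpowers b)
            have := Subgroup.mem_centralizer_singleton_iff.1 hbA.2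
            rw [this] at h
            exact H.S.ne_one (left_eq_mul.1 h)
          have h5 := LargeExtra.card_two_mul_le hlt
          have h6 := Subgroup.card_le_of_le hle
          have h7 : Nat.card ↥A = 2 ^ 24 := H.card_cent hgQ hgne
          obtain ⟨q, hq, hqx⟩ := H.exists_flip hxQ hx1 hxz
          have hk2 := h2 ⟨q, hq, fun e => by
            rw [e, mul_inv_cancel_right] at hqx
            exact H.S.ne_one (left_eq_mul.1 hqx)⟩
          rw [H.card, hk2] at hQk
          omega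
        have hsb : s * b = b * s * z := by rw [h, mul_assoc (s * b) z z, H.zz, mul_one]
        calc x * s * b = x * (b * s * z) := by rw [mul_assoc, hsb]
          _ = x * b * (s * z) := by group
          _ = x * b * (z * s) := by rw [H.z_comm hgQ]
          _ = b * x * s := by rw [hbx]; group
          _ = b * (x * s) := mul_assoc _ _ _
    rcases H.S.center _ (mul_mem hxQ hgQ) hall with e | e
    · exact hxs (by rw [eq_inv_of_mul_eq_one_left e]; exact inv_mem (Subgroup.mem_zpowers s))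
    · refine hz (e ▸ mul_mem hxQs (H.conjQ_mem_s g))

theorem inv_pair [Finite G] {g : G} (hgQ : g * z * g⁻¹ ∈ Q) (hgne : g * z * g⁻¹ ≠ z) :
    g⁻¹ * z * g⁻¹⁻¹ ∈ Q ∧ g⁻¹ * z * g⁻¹⁻¹ ≠ z := by
  refine ⟨by rw [inv_inv]; exact mem_conjQ.1 (H.z_mem hgQ hgne), fun e => hgne ?_⟩
  conv_lhs => rw [← e]
  group

theorem card_conjQ_cent [Finite G] {g : G} (hgQ : g * z * g⁻¹ ∈ Q) (hgne : g * z * g⁻¹ ≠ z) :
    Nat.card ↥(Q.map (MulAut.conj g).toMonoidHom ⊓ Subgroup.centralizer ({z} : Set G)) = 2 ^ 24 := by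
  obtain ⟨h1, h2⟩ := H.inv_pair hgQ hgne
  rw [← H.card_cent h1 h2, ← Subgroup.card_map_of_injective
    (K := Q ⊓ Subgroup.centralizer ({g⁻¹ * z * g⁻¹⁻¹} : Set G))
    (f := (MulAut.conj g).toMonoidHom) (MulAut.conj g).injective]
  congr 1
  apply congrArg (fun K : Subgroup G => ↥K)
  ext x
  rw [Subgroup.mem_inf, mem_conjQ]
  show _ ↔ x ∈ (Q ⊓ Subgroup.centralizer ({g⁻¹ * z * g⁻¹⁻¹} : Set G)).map (MulAut.conj g).toMonoidHom
  rw [mem_conjQ, Subgroup.mem_inf, Subgroup.mem_centralizer_singleton_iff,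
    Subgroup.mem_centralizer_singleton_iff, inv_inv,
    show g⁻¹ * x * g * (g⁻¹ * z * g) = g⁻¹ * (x * z) * g by group,
    show g⁻¹ * z * g * (g⁻¹ * x * g) = g⁻¹ * (z * x) * g by group, mul_left_inj, mul_right_inj]

theorem inter_props {g : G} (hgQ : g * z * g⁻¹ ∈ Q) (hgne : g * z * g⁻¹ ≠ z) :
    (∀ a ∈ Q ⊓ Q.map (MulAut.conj g).toMonoidHom, ∀ b ∈ Q ⊓ Q.map (MulAut.conj g).toMonoidHom, a * b = b * a) ∧
      ∀ a ∈ Q ⊓ Q.map (MulAut.conj g).toMonoidHom, a * a = 1 := by
  constructor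
  · intro a ha b hb
    rcases H.S.comm_z_left ha.1 hb.1 with h | h
    · exact h
    rcases H.conjQ_comm ha.2 hb.2 with h' | h'
    · exact h'
    · exact absurd (mul_left_cancel (h.symm.trans h')).symm hgne
  · intro a ha
    rcases H.S.sq a ha.1 with h | h
    · exact h
    rcases H.S.sq _ (mem_conjQ.1 ha.2) with h' | h'
    · calc a * a = g * ((g⁻¹ * a * g) * (g⁻¹ * a * g)) * g⁻¹ := by group
        _ = 1 := by rw [h']; group
    · refine absurd ?_ hgne
      calc g * z * g⁻¹ = g * ((g⁻¹ * a * g) * (g⁻¹ * a * g)) * g⁻¹ := by rw [h']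
        _ = a * a := by group
        _ = z := h

theorem card_inter_mul [Finite G] {g : G} (hgQ : g * z * g⁻¹ ∈ Q) (hgne : g * z * g⁻¹ ≠ z) :
    Nat.card ↥(Q ⊓ Q.map (MulAut.conj g).toMonoidHom) * Nat.card (rImage π Q g) = 2 ^ 24 := by
  set B := Q.map (MulAut.conj g).toMonoidHom ⊓ Subgroup.centralizer ({z} : Set G)
  let f : ↥(B.subgroupOf (Subgroup.centralizer ({z} : Set G))) →* Spor.Co1 := π.comp (Subgroup.subtype _)
  have hr : f.range = rImage π Q g := by
    rw [MonoidHom.range_comp, Subgroup.range_subtype]; rfl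
  have hk := Subgroup.card_mul_index f.ker
  rw [Subgroup.index_ker, hr, Nat.card_congr (Subgroup.subgroupOfEquivOfLe inf_le_right).toEquiv,
    H.card_conjQ_cent hgQ hgne] at hk
  rw [← hk]
  congr 1
  refine Nat.card_congr
    { toFun := fun a => ⟨⟨⟨(a : G), H.le a.2.1⟩, ⟨a.2.2, H.le a.2.1⟩⟩, (H.ker _).2 a.2.1⟩
      invFun := fun b => ⟨((b.1.1 : ↥(Subgroup.centralizer ({z} : Set G))) : G), (H.ker _).1 b.2, b.1.2.1⟩
      left_inv := fun a => rfl
      right_inv := fun b => rfl }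

theorem card_inter_le [Finite G] {g : G} (hgQ : g * z * g⁻¹ ∈ Q) (hgne : g * z * g⁻¹ ≠ z) :
    Nat.card ↥(Q ⊓ Q.map (MulAut.conj g).toMonoidHom) ≤ 2 ^ 13 := by
  have h := H.abelian_card inf_le_left (H.inter_props hgQ hgne).1
  rw [H.card] at h
  by_contra hlt
  push Not at hlt
  have := Nat.mul_le_mul hlt hlt
  omega

theorem mem_xImage {x : G} {v : leechLattice} (hx : Cls z θ x v) (hne : ¬ Cong v 0) {g₀ : Co0} :
    (QuotientGroup.mk g₀ : Spor.Co1) ∈ xImage π x ↔ g₀ ∈ classStab v := by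
  rw [mem_classStab]
  constructor
  · rintro ⟨h, hh, hgh⟩
    have hc := H.cls_conj hx h hgh
    have hfix : (h : G) * x * (h : G)⁻¹ = x := by
      have := Subgroup.mem_centralizer_singleton_iff.1 (show (h : G) ∈ Subgroup.centralizer ({x} : Set G) from hh.2)
      rw [this, mul_inv_cancel_right]
    rw [hfix] at hc
    exact H.cong_of_cls hc hx
  · intro hg
    obtain ⟨h, hh⟩ := H.surj (QuotientGroup.mk g₀)
    have hc := H.cls_of_cong (H.cls_conj hx h hh) hg
    obtain ⟨q, hq, hqx⟩ := H.exists_flip (H.cls_mem hx) (fun e => hne ((H.noncentral hx).1 (Or.inl e)))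
      (fun e => hne ((H.noncentral hx).1 (Or.inr e)))
    rcases H.eq_of_cls hx hc with e | e
    · refine ⟨h, ⟨h.2, Subgroup.mem_centralizer_singleton_iff.2 ?_⟩, hh⟩
      exact mul_inv_eq_iff_eq_mul.1 e
    · refine ⟨⟨q, H.le hq⟩ * h, ⟨mul_mem (H.le hq) h.2, Subgroup.mem_centralizer_singleton_iff.2 ?_⟩, ?_⟩
      · refine mul_inv_eq_iff_eq_mul.1 ?_
        show q * (h : G) * x * (q * (h : G))⁻¹ = x
        rw [show q * (h : G) * x * (q * (h : G))⁻¹ = q * ((h : G) * x * (h : G)⁻¹) * q⁻¹ by group, e,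
          show q * (x * z) * q⁻¹ = q * x * q⁻¹ * (q * z * q⁻¹) by group, hqx, H.S.le_cent q hq,
          mul_inv_cancel_right, mul_assoc, H.zz, mul_one]
      · rw [map_mul, (H.ker _).2 hq, one_mul, hh]

theorem xImage_comap {x : G} {v : leechLattice} (hx : Cls z θ x v) (hne : ¬ Cong v 0) :
    (xImage π x).comap (QuotientGroup.mk' (Subgroup.center Co0)) = classStab v :=
  Subgroup.ext fun _ => H.mem_xImage hx hne

theorem rImage_normal {g : G} (hgQ : g * z * g⁻¹ ∈ Q) :
    rImage π Q g ≤ xImage π (g * z * g⁻¹) ∧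
      ∀ a ∈ xImage π (g * z * g⁻¹), ∀ b ∈ rImage π Q g, a * b * a⁻¹ ∈ rImage π Q g := by
  constructor
  · refine Subgroup.map_mono fun h hh => ⟨h.2, ?_⟩
    show (h : G) ∈ Subgroup.centralizer ({g * z * g⁻¹} : Set G)
    rw [Subgroup.mem_centralizer_singleton_iff]
    have h1 : g⁻¹ * (h : G) * g ∈ Q := mem_conjQ.1 hh.1
    calc (h : G) * (g * z * g⁻¹) = g * ((g⁻¹ * (h : G) * g) * z) * g⁻¹ := by group
      _ = g * z * g⁻¹ * (h : G) := by rw [H.S.le_cent _ h1]; group
  · rintro _ ⟨a, ha, rfl⟩ _ ⟨b, hb, rfl⟩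
    refine ⟨a * b * a⁻¹, ⟨H.centralizer_le_normalizer_conjQ ha.2 hb.1, (a * b * a⁻¹).2⟩, by
      rw [map_mul, map_mul, map_inv]⟩

theorem rImage_two [Finite G] (g : G) : IsPGroup 2 (rImage π Q g) := by
  refine IsPGroup.map ?_ π
  refine IsPGroup.of_equiv ?_ (Subgroup.subgroupOfEquivOfLe inf_le_right).symm
  exact (H.S.two.map (MulAut.conj g).toMonoidHom).to_le inf_le_left

/-- The class of another conjugate of `z` in `Q` has norm 64. -/
theorem norm_conj [Finite G] {g : G} (hgQ : g * z * g⁻¹ ∈ Q) (hgne : g * z * g⁻¹ ≠ z) {v : leechLattice}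
    (hv : Cls z θ (g * z * g⁻¹) v) (hn : sqNorm (v : GolayPt → ℤ) = 32 ∨ sqNorm (v : GolayPt → ℤ) = 48 ∨
      sqNorm (v : GolayPt → ℤ) = 64) : sqNorm (v : GolayPt → ℤ) = 64 := by
  by_contra h64
  have hne := H.norm_ne_zero hn
  have hcomap := H.xImage_comap hv hne
  obtain ⟨hRX, hRn⟩ := H.rImage_normal hgQ
  set K := (rImage π Q g).comap (QuotientGroup.mk' (Subgroup.center Co0))
  have hK : IsPGroup 2 K := by
    refine (H.rImage_two g).comap_of_ker_isPGroup _ ?_
    rw [QuotientGroup.ker_mk']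
    exact IsPGroup.of_card (n := 1) card_center
  have hKle : K ≤ classStab v := hcomap ▸ Subgroup.comap_mono hRX
  have hnorm : classStab v ≤ Subgroup.normalizer (K : Set Co0) := by
    intro a ha
    have hmem : ∀ b : Co0, b ∈ K → ∀ c ∈ classStab v, c * b * c⁻¹ ∈ K := fun b hb c hc => by
      show QuotientGroup.mk' _ (c * b * c⁻¹) ∈ rImage π Q g
      rw [map_mul, map_mul, map_inv]
      exact hRn _ ((H.mem_xImage hv hne).2 hc) _ hb
    refine Subgroup.mem_normalizer_iff.2 fun b => ⟨fun hb => hmem b hb a ha, fun hb => ?_⟩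
    have := hmem _ hb a⁻¹ (inv_mem ha)
    rwa [show a⁻¹ * (a * b * a⁻¹) * a⁻¹⁻¹ = b by group] at this
  have hcen := le_center_of_normal (by omega) K hK hKle hnorm
  have hbot : rImage π Q g = ⊥ := by
    rw [eq_bot_iff]
    intro x hx
    obtain ⟨a, rfl⟩ := QuotientGroup.mk'_surjective _ x
    rw [Subgroup.mem_bot, QuotientGroup.mk'_apply, QuotientGroup.eq_one_iff]
    exact hcen hx
  have h1 := H.card_inter_mul hgQ hgne
  rw [hbot, Subgroup.card_bot, mul_one] at h1
  have h2 := H.card_inter_le hgQ hgne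
  omega

theorem exists_class [Finite G] {g : G} (hgQ : g * z * g⁻¹ ∈ Q) (hgne : g * z * g⁻¹ ≠ z) :
    ∃ v, Cls z θ (g * z * g⁻¹) v ∧ sqNorm (v : GolayPt → ℤ) = 64 := by
  obtain ⟨v, hv, hn⟩ := H.exists_short hgQ (H.s_facts hgne).1 hgne
  exact ⟨v, hv, H.norm_conj hgQ hgne hv hn⟩

/-- The full structure at a conjugate of `z`. -/
theorem pair_structure [Finite G] {g : G} (hgQ : g * z * g⁻¹ ∈ Q) (hgne : g * z * g⁻¹ ≠ z) :
    Nat.card ↥(Q ⊓ Q.map (MulAut.conj g).toMonoidHom) = 2 ^ 13 ∧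
      ∃ g' : Co0, rImage π Q g = diagHom.range.map (toCo1 g') ∧
        xImage π (g * z * g⁻¹) = monoSub.map (toCo1 g') ∧
        Cls z θ (g * z * g⁻¹) (g' • eightVec none) := by
  obtain ⟨v, hv, h64⟩ := H.exists_class hgQ hgne
  obtain ⟨g', hg'⟩ := Orbits.transitive64 (eightVec none) v (sqNorm_eightVec none) h64
  have hne : ¬ Cong v 0 := H.norm_ne_zero (Or.inr (Or.inr h64))
  have hX : (xImage π (g * z * g⁻¹)).comap (toCo1 g') = monoSub := by
    rw [toCo1, ← Subgroup.comap_comap, H.xImage_comap hv hne, ← hg', classStab_smul, classStab_eightVec,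
      Subgroup.comap_map_eq_self_of_injective (MulAut.conj g').injective]
  obtain ⟨hRX, hRn⟩ := H.rImage_normal hgQ
  set K := (rImage π Q g).comap (toCo1 g') with hKdef
  have hK : IsPGroup 2 K := by
    refine (H.rImage_two g).comap_of_ker_isPGroup _ ?_
    rw [toCo1_ker]
    exact IsPGroup.of_card (n := 1) card_center
  have hKle : K ≤ monoSub := hX ▸ Subgroup.comap_mono hRX
  have hnorm : monoSub ≤ Subgroup.normalizer (K : Set Co0) := by
    intro a ha
    have hmem : ∀ b : Co0, b ∈ K → ∀ c ∈ monoSub, c * b * c⁻¹ ∈ K := fun b hb c hc => by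
      show toCo1 g' (c * b * c⁻¹) ∈ rImage π Q g
      rw [map_mul, map_mul, map_inv]
      exact hRn _ (by rw [← hX] at hc; exact hc) _ hb
    refine Subgroup.mem_normalizer_iff.2 fun b => ⟨fun hb => hmem b hb a ha, fun hb => ?_⟩
    have := hmem _ hb a⁻¹ (inv_mem ha)
    rwa [show a⁻¹ * (a * b * a⁻¹) * a⁻¹⁻¹ = b by group] at this
  have hKd : K ≤ diagHom.range := le_diag_of_normal K hK hKle hnorm
  have hKc := card_comap_toCo1 g' (rImage π Q g)
  rw [← hKdef] at hKc
  have hle := Subgroup.card_le_of_le hKd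
  rw [card_diag] at hle
  have hD := H.card_inter_le hgQ hgne
  have hmul := H.card_inter_mul hgQ hgne
  have hR : Nat.card (rImage π Q g) = 2 ^ 11 := by
    refine le_antisymm (by omega) ?_
    by_contra hlt
    push Not at hlt
    have := Nat.mul_lt_mul_of_le_of_lt hD hlt (by norm_num)
    omega
  refine ⟨by rw [hR] at hmul; omega, g', ?_, ?_, hg' ▸ hv⟩
  · have heq : K = diagHom.range := Subgroup.eq_of_le_of_card_ge hKd (by rw [card_diag, hKc, hR]; norm_num)
    rw [← heq, hKdef, Subgroup.map_comap_eq_self_of_surjective (toCo1_surjective g')]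
  · rw [← hX, Subgroup.map_comap_eq_self_of_surjective (toCo1_surjective g')]

end Hyp

end CfsgLib.MonsterQ
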