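import Cfsg.Agent.Lib.MonsterQ.Lattice
import Cfsg.Agent.Lib.LargeExtra.Setting
import Cfsg.Agent.Lib.LargeExtra.Facts
import Cfsg.Agent.Lib.Components.GenFitting
import Cfsg.Agent.Lib.KSteps.GFit
import Cfsg.Prelude.Def_MonsterType

/-! The extraspecial subgroup of a Monster-type centralizer with its lattice coordinates. -/

set_option autoImplicit false
set_option linter.style.haveILetI false

namespace CfsgLib.MonsterQ

open Cfsg CfsgLib CfsgLib.Leech

variable {G : Type*} [Group G]

/-- The Monster-type data inside `G`: coordinates `θ` for `Q` and the action `π` of the centralizer. -/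
structure Hyp (z : G) (Q : Subgroup G) (π : ↥(Subgroup.centralizer ({z} : Set G)) →* Spor.Co1)
    (θ : leechLattice → G) : Prop where
  hz : orderOf z = 2
  S : LargeExtra.Setting z Q
  le : Q ≤ Subgroup.centralizer ({z} : Set G)
  card : Nat.card Q = 2 ^ 25
  surj : Function.Surjective π
  ker : ∀ h, π h = 1 ↔ (h : G) ∈ Q
  mem : ∀ v, θ v ∈ Q
  cover : ∀ q ∈ Q, ∃ v, q = θ v ∨ q = θ v * z
  add : ∀ v w, θ (v + w) = θ v * θ w ∨ θ (v + w) = θ v * θ w * z
  zero : ∀ v, (θ v = 1 ∨ θ v = z) ↔ Cong v 0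
  equiv : ∀ (h : ↥(Subgroup.centralizer ({z} : Set G))) (g : Co0), π h = (QuotientGroup.mk g : Spor.Co1) →
    ∀ v, (h : G) * θ v * (h : G)⁻¹ = θ (g • v) ∨ (h : G) * θ v * (h : G)⁻¹ = θ (g • v) * z
  nwc : ∃ s ∈ Q, IsConj z s ∧ s ≠ z

/-- `x` lies in the class of `v`. -/
def Cls (z : G) (θ : leechLattice → G) (x : G) (v : leechLattice) : Prop := x = θ v ∨ x = θ v * z

theorem pm_cls {z : G} (hz : z * z = 1) {a b : G} (h : a = b ∨ a = b * z) : b = a ∨ b = a * z := by
  rcases h with h | h
  · exact Or.inl h.symm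
  · exact Or.inr (by rw [h, mul_assoc, hz, mul_one])

namespace Hyp

variable {z : G} {Q : Subgroup G} {π : ↥(Subgroup.centralizer ({z} : Set G)) →* Spor.Co1}
  {θ : leechLattice → G} (H : Hyp z Q π θ)
include H

theorem zz : z * z = 1 := H.S.sq_one

theorem cls_mem {x : G} {v : leechLattice} (h : Cls z θ x v) : x ∈ Q := by
  rcases h with rfl | rfl
  · exact H.mem v
  · exact mul_mem (H.mem v) H.S.mem

theorem z_comm {q : G} (hq : q ∈ Q) : z * q = q * z := (H.S.le_cent q hq).symm

theorem theta_zero : θ 0 = 1 ∨ θ 0 = z := (H.zero 0).2 (Cong.refl 0)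

theorem cls_neg (v : leechLattice) : θ v * θ (-v) = 1 ∨ θ v * θ (-v) = z := by
  have h := H.add v (-v)
  rw [add_neg_cancel] at h
  rcases H.theta_zero with e | e <;> rw [e] at h <;> rcases h with h | h
  · exact Or.inl h.symm
  · exact Or.inr ((eq_inv_of_mul_eq_one_left h.symm).trans H.S.inv_z)
  · exact Or.inr h.symm
  · exact Or.inl (mul_right_cancel (h.symm.trans (one_mul z).symm))

theorem cong_of_cls {x : G} {v w : leechLattice} (hv : Cls z θ x v) (hw : Cls z θ x w) : Cong v w := by
  have hk : ∀ {a : G}, a = 1 ∨ a = z → a * z = 1 ∨ a * z = z := by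
    rintro a (rfl | rfl)
    · exact Or.inr (one_mul z)
    · exact Or.inl H.zz
  have h1 : θ v * θ (-w) = 1 ∨ θ v * θ (-w) = z := by
    have e : θ v = θ w ∨ θ v = θ w * z := by
      rcases hv with h | h <;> rcases hw with h' | h'
      · exact Or.inl (h.symm.trans h')
      · exact Or.inr (h.symm.trans h')
      · exact Or.inr (by rw [← h'.trans rfl, h, mul_assoc, H.zz, mul_one])
      · exact Or.inl (mul_right_cancel (h.symm.trans h'))
    rcases e with e | e <;> rw [e]
    · exact H.cls_neg w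
    · rw [mul_assoc, H.z_comm (H.mem _), ← mul_assoc]
      exact hk (H.cls_neg w)
  have h2 : θ (v + -w) = 1 ∨ θ (v + -w) = z := by
    rcases H.add v (-w) with e | e <;> rw [e]
    exacts [h1, hk h1]
  obtain ⟨u, hu⟩ := (H.zero _).1 h2
  exact ⟨u, by rw [← hu]; abel⟩

theorem cls_mul {x y : G} {v w : leechLattice} (hx : Cls z θ x v) (hy : Cls z θ y w) :
    Cls z θ (x * y) (v + w) := by
  have key : x * y = θ v * θ w ∨ x * y = θ v * θ w * z := by
    rcases hx with rfl | rfl <;> rcases hy with rfl | rfl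
    · exact Or.inl rfl
    · exact Or.inr (by group)
    · exact Or.inr (by rw [mul_assoc, H.z_comm (H.mem w), ← mul_assoc])
    · refine Or.inl ?_
      calc θ v * z * (θ w * z) = θ v * (z * θ w) * z := by group
        _ = θ v * θ w * (z * z) := by rw [H.z_comm (H.mem w)]; group
        _ = θ v * θ w := by rw [H.zz, mul_one]
  rcases H.add v w with e | e <;> rcases key with k | k
  · exact Or.inl (k.trans e.symm)
  · exact Or.inr (by rw [k, e])
  · exact Or.inr (by rw [k, e, mul_assoc, H.zz, mul_one])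
  · exact Or.inl (k.trans e.symm)

theorem cls_z {x : G} {v : leechLattice} (hx : Cls z θ x v) : Cls z θ (x * z) v := by
  rcases hx with rfl | rfl
  · exact Or.inr rfl
  · exact Or.inl (by rw [mul_assoc, H.zz, mul_one])

theorem cls_of_cong {x : G} {v w : leechLattice} (hx : Cls z θ x v) (hc : Cong v w) : Cls z θ x w := by
  obtain ⟨u, hu⟩ := hc
  have h0 : θ (v - w) = 1 ∨ θ (v - w) = z := (H.zero _).2 ⟨u, by rw [sub_zero, hu]⟩
  have h := H.add w (v - w)
  rw [add_sub_cancel] at h
  have hvw : θ v = θ w ∨ θ v = θ w * z := by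
    rcases h0 with e | e <;> rw [e] at h <;> rcases h with h | h
    · exact Or.inl (h.trans (mul_one _))
    · exact Or.inr (by rw [h, mul_one])
    · exact Or.inr h
    · exact Or.inl (by rw [h, mul_assoc, H.zz, mul_one])
  rcases hx with rfl | rfl <;> rcases hvw with e | e
  · exact Or.inl e
  · exact Or.inr e
  · exact Or.inr (by rw [e])
  · exact Or.inl (by rw [e, mul_assoc, H.zz, mul_one])

theorem eq_of_cls {x y : G} {v : leechLattice} (hx : Cls z θ x v) (hy : Cls z θ y v) :
    y = x ∨ y = x * z := by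
  rcases hx with rfl | rfl <;> rcases hy with rfl | rfl
  · exact Or.inl rfl
  · exact Or.inr rfl
  · exact Or.inr (by rw [mul_assoc, H.zz, mul_one])
  · exact Or.inl rfl

theorem noncentral {x : G} {v : leechLattice} (hx : Cls z θ x v) : (x = 1 ∨ x = z) ↔ Cong v 0 := by
  rw [← H.zero v]
  rcases hx with rfl | rfl
  · exact Iff.rfl
  · constructor <;> rintro (h | h)
    · exact Or.inr ((eq_inv_of_mul_eq_one_left h).trans H.S.inv_z)
    · exact Or.inl (mul_right_cancel (h.trans (one_mul z).symm))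
    · exact Or.inr (by rw [h, one_mul])
    · exact Or.inl (by rw [h, H.zz])

theorem cls_conj {x : G} {v : leechLattice} (hx : Cls z θ x v) (h : ↥(Subgroup.centralizer ({z} : Set G)))
    {g : Co0} (hg : π h = (QuotientGroup.mk g : Spor.Co1)) :
    Cls z θ ((h : G) * x * (h : G)⁻¹) (g • v) := by
  have hzc : (h : G) * z * (h : G)⁻¹ = z := by
    rw [Subgroup.mem_centralizer_singleton_iff.1 h.2, mul_inv_cancel_right]
  rcases hx with rfl | rfl
  · exact H.equiv h g hg v
  · rw [show (h : G) * (θ v * z) * (h : G)⁻¹ = (h : G) * θ v * (h : G)⁻¹ * ((h : G) * z * (h : G)⁻¹) by group, hzc]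
    exact H.cls_z (H.equiv h g hg v)

theorem exists_short {x : G} (hx : x ∈ Q) (h1 : x ≠ 1) (hzx : x ≠ z) :
    ∃ v : leechLattice, Cls z θ x v ∧
      (sqNorm (v : GolayPt → ℤ) = 32 ∨ sqNorm (v : GolayPt → ℤ) = 48 ∨ sqNorm (v : GolayPt → ℤ) = 64) := by
  obtain ⟨v, hv⟩ := H.cover x hx
  obtain ⟨w, hw, hc⟩ := exists_short_cong v
  have hxw := H.cls_of_cong hv hc
  refine ⟨w, hxw, short_norm_cases w ?_ hw⟩
  rintro rfl
  rcases (H.noncentral hxw).2 (Cong.refl 0) with e | e
  exacts [h1 e, hzx e]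

theorem exists_flip {x : G} (hx : x ∈ Q) (h1 : x ≠ 1) (hzx : x ≠ z) :
    ∃ q ∈ Q, q * x * q⁻¹ = x * z := by
  by_contra hcon
  push Not at hcon
  rcases H.S.center x hx (fun b hb => by
    rcases H.S.comm_z_left hb hx with h | h
    · exact h.symm
    · exact absurd (by rw [h, mul_assoc x b z, H.S.le_cent b hb]
                       rw [show x * (z * b) * b⁻¹ = x * z by group]) (hcon b hb)) with e | e
  exacts [h1 e, hzx e]

theorem norm_ne_zero {v : leechLattice}
    (hn : sqNorm (v : GolayPt → ℤ) = 32 ∨ sqNorm (v : GolayPt → ℤ) = 48 ∨ sqNorm (v : GolayPt → ℤ) = 64) :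
    ¬ Cong v 0 :=
  not_cong_zero (by rintro rfl; simp [sqNorm] at hn) (by omega)

/-- Elements in classes of equal short norm are conjugate under the centralizer. -/
theorem conj_of_norm {x y : G} {v w : leechLattice} {N : ℤ} (hN : N = 32 ∨ N = 48 ∨ N = 64)
    (hx : Cls z θ x v) (hy : Cls z θ y w) (hv : sqNorm (v : GolayPt → ℤ) = N)
    (hw : sqNorm (w : GolayPt → ℤ) = N) : ∃ h ∈ Subgroup.centralizer ({z} : Set G), h * x * h⁻¹ = y := by
  obtain ⟨g, hg⟩ : ∃ g : Co0, g • v = w := by
    rcases hN with rfl | rfl | rfl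
    · exact Orbits.transitive32 v w hv hw
    · exact Orbits.transitive48 v w hv hw
    · exact Orbits.transitive64 v w hv hw
  obtain ⟨h, hh⟩ := H.surj (QuotientGroup.mk g)
  have hc := H.cls_conj hx h hh
  rw [hg] at hc
  rcases H.eq_of_cls hc hy with e | e
  · exact ⟨h, h.2, e.symm⟩
  · have hne : ¬ (y = 1 ∨ y = z) := fun e => H.norm_ne_zero (hw ▸ hN) ((H.noncentral hy).1 e)
    obtain ⟨q, hq, hqy⟩ := H.exists_flip (H.cls_mem hy) (fun e => hne (Or.inl e)) (fun e => hne (Or.inr e))
    refine ⟨q * h, mul_mem (H.le hq) h.2, ?_⟩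
    rw [show q * (h : G) * x * (q * (h : G))⁻¹ = q * ((h : G) * x * (h : G)⁻¹) * q⁻¹ by group,
      show (h : G) * x * (h : G)⁻¹ = y * z by rw [e, mul_assoc ((h : G) * x * (h : G)⁻¹) z z, H.zz, mul_one],
      show q * (y * z) * q⁻¹ = q * y * q⁻¹ * (q * z * q⁻¹) by group, hqy, H.S.le_cent q hq,
      mul_inv_cancel_right, mul_assoc, H.zz, mul_one]

/-- The sign hom recording commutation with a fixed element. -/
noncomputable def sgn {U : Subgroup G} (hU : U ≤ Q) {t : G} (ht : t ∈ Q) : ↥U →* ℤˣ := by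
  classical
  exact MonoidHom.mk' (fun u => if (u : G) * t = t * (u : G) then 1 else -1) fun a b => by
    have hn : ∀ u : ↥U, ¬ ((u : G) * t = t * (u : G)) → (u : G) * t = t * (u : G) * z := fun u hu =>
      (H.S.comm_z_left (hU u.2) ht).resolve_left hu
    have hzb : z * (b : G) = (b : G) * z := H.z_comm (hU b.2)
    have hne : t * ((a : G) * (b : G)) * z ≠ t * ((a : G) * (b : G)) := fun e =>
      H.S.ne_one (mul_left_cancel (e.trans (mul_one _).symm))
    by_cases ha : (a : G) * t = t * (a : G) <;> by_cases hb : (b : G) * t = t * (b : G) <;>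
      simp only [Subgroup.coe_mul, ha, hb, if_true, if_false, mul_one, one_mul, neg_mul_neg]
    · exact if_pos (by rw [mul_assoc, hb, ← mul_assoc, ha, mul_assoc])
    · exact if_neg (by
        rw [mul_assoc, hn b hb, ← mul_assoc, ← mul_assoc, ha, mul_assoc t (a : G) b]
        exact hne)
    · exact if_neg (by
        rw [mul_assoc, hb, ← mul_assoc, hn a ha, mul_assoc (t * (a : G)) z b, hzb]
        simpa [mul_assoc] using hne)
    · exact if_pos (by
        rw [mul_assoc, hn b hb, ← mul_assoc, ← mul_assoc, hn a ha, mul_assoc (t * (a : G)) z b, hzb]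
        simp [mul_assoc, H.zz])

theorem sgn_ker {U : Subgroup G} (hU : U ≤ Q) {t : G} (ht : t ∈ Q) :
    (H.sgn hU ht).ker = (U ⊓ Subgroup.centralizer ({t} : Set G)).subgroupOf U := by
  classical
  ext u
  rw [MonoidHom.mem_ker, Subgroup.mem_subgroupOf, Subgroup.mem_inf, Subgroup.mem_centralizer_singleton_iff]
  simp only [sgn, MonoidHom.mk'_apply]
  split_ifs with h <;> simp [h]

theorem card_inf_centralizer {U : Subgroup G} (hU : U ≤ Q) {t : G} (ht : t ∈ Q) :
    ∃ k : ℕ, (k = 1 ∨ k = 2) ∧ Nat.card U = k * Nat.card ↥(U ⊓ Subgroup.centralizer ({t} : Set G)) ∧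
      ((∃ u ∈ U, u * t ≠ t * u) → k = 2) := by
  classical
  have h := Subgroup.index_ker (H.sgn hU ht)
  rw [H.sgn_ker hU ht] at h
  have hk := Subgroup.card_mul_index ((U ⊓ Subgroup.centralizer ({t} : Set G)).subgroupOf U)
  rw [Nat.card_congr (Subgroup.subgroupOfEquivOfLe inf_le_left).toEquiv, h] at hk
  have hu : Nat.card (H.sgn hU ht).range ∣ 2 := by
    have := Subgroup.card_subgroup_dvd_card (H.sgn hU ht).range
    rwa [Nat.card_eq_fintype_card (α := ℤˣ), Fintype.card_units_int] at this
  refine ⟨_, (Nat.dvd_prime Nat.prime_two).1 hu, by rw [mul_comm]; exact hk.symm, ?_⟩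
  rintro ⟨u, huU, hne⟩
  refine ((Nat.dvd_prime Nat.prime_two).1 hu).resolve_left fun h1 => ?_
  have := Subgroup.eq_bot_of_card_eq _ h1
  rw [MonoidHom.range_eq_bot_iff] at this
  have := DFunLike.congr_fun this ⟨u, huU⟩
  simp [sgn, hne] at this

/-- Abelian subgroups have order at most `2^13`. -/
theorem abelian_card [Finite G] {U : Subgroup G} (hU : U ≤ Q)
    (hab : ∀ a ∈ U, ∀ b ∈ U, a * b = b * a) : Nat.card U * Nat.card U ≤ 2 * Nat.card Q := by
  classical
  let P : Subgroup G → Prop := fun E => U ≤ E ∧ E ≤ Q ∧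
    Nat.card U * Nat.card U ≤ Nat.card ↥(U ⊓ Subgroup.centralizer (E : Set G)) * Nat.card E
  have hP : P U := ⟨le_rfl, hU, by
    rw [inf_eq_left.2 fun a ha => Subgroup.mem_centralizer_iff.2 fun b hb => hab b hb a ha]⟩
  obtain ⟨E, hE, hmax⟩ := (Set.toFinite {E : Subgroup G | P E}).exists_maximal ⟨U, hP⟩
  obtain ⟨hUE, hEQ, hcard⟩ := hE
  have heq : E = Q := by
    by_contra hne
    obtain ⟨t, htQ, htE⟩ := SetLike.exists_of_lt (lt_of_le_of_ne hEQ hne)
    set E' := E ⊔ Subgroup.zpowers t
    have hlt : E < E' := lt_of_le_of_ne le_sup_left fun e =>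
      htE (e.symm ▸ Subgroup.mem_sup_right (Subgroup.mem_zpowers t))
    have h2 := LargeExtra.card_two_mul_le hlt
    obtain ⟨k, hk, hUk, -⟩ := H.card_inf_centralizer (U := U ⊓ Subgroup.centralizer (E : Set G))
      (inf_le_left.trans hU) htQ
    have hle : (U ⊓ Subgroup.centralizer (E : Set G)) ⊓ Subgroup.centralizer ({t} : Set G) ≤
        U ⊓ Subgroup.centralizer (E' : Set G) := by
      refine le_inf (inf_le_left.trans inf_le_left) fun a ha => ?_
      obtain ⟨⟨-, haE⟩, hat⟩ := ha
      have hle : E' ≤ Subgroup.centralizer ({a} : Set G) := sup_le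
        (fun e he => Subgroup.mem_centralizer_singleton_iff.2 (Subgroup.mem_centralizer_iff.1 haE e he))
        (by rw [Subgroup.zpowers_le, Subgroup.mem_centralizer_singleton_iff]
            exact (Subgroup.mem_centralizer_singleton_iff.1 hat).symm)
      exact Subgroup.mem_centralizer_iff.2 fun b hb => Subgroup.mem_centralizer_singleton_iff.1 (hle hb)
    have h3 := Subgroup.card_le_of_le hle
    have hP' : P E' := ⟨hUE.trans hlt.le, sup_le hEQ ((Subgroup.zpowers_le).2 htQ), by
      refine hcard.trans ?_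
      rw [hUk]
      calc k * Nat.card ↥(U ⊓ Subgroup.centralizer (E : Set G) ⊓ Subgroup.centralizer ({t} : Set G)) * Nat.card E
          ≤ 2 * Nat.card ↥(U ⊓ Subgroup.centralizer (E' : Set G)) * Nat.card E :=
            Nat.mul_le_mul_right _ (Nat.mul_le_mul (by omega) h3)
        _ ≤ Nat.card ↥(U ⊓ Subgroup.centralizer (E' : Set G)) * Nat.card E' := by
            rw [mul_comm 2, mul_assoc]; exact Nat.mul_le_mul_left _ h2⟩
    exact hlt.ne (le_antisymm hlt.le (hmax hP' hlt.le))
  subst heq
  refine hcard.trans (Nat.mul_le_mul_right _ ?_)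
  refine le_of_le_of_eq (Subgroup.card_le_of_le (K := Subgroup.zpowers z) fun a ha => ?_) (by rw [Nat.card_zpowers, H.hz])
  rcases H.S.center a (hU ha.1) (fun b hb => (Subgroup.mem_centralizer_iff.1 ha.2 b hb).symm) with e | e <;> rw [e]
  exacts [one_mem _, Subgroup.mem_zpowers z]

end Hyp

/-- The data supplied by the frozen hypothesis. -/
theorem exists_hyp [Finite G] {z : G} {Q : Subgroup ↥(Subgroup.centralizer ({z} : Set G))} [Q.Normal]
    (hS : Cfsg.IsExtraspecialCentralizerSetting z Q 12)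
    (e : ↥(Subgroup.centralizer ({z} : Set G)) ⧸ Q ≃* Spor.Co1) (ψ : leechLattice → Q ⧸ Subgroup.center Q)
    (hψ : Cfsg.IsLeechModTwoIso Q e ψ) :
    ∃ θ : leechLattice → G, Hyp z (Q.map (Subgroup.centralizer ({z} : Set G)).subtype)
      (e.toMonoidHom.comp (QuotientGroup.mk' Q)) θ ∧
      ∀ (x : Q) (v : leechLattice), ψ v = QuotientGroup.mk x ↔
        Cls z θ ((x : ↥(Subgroup.centralizer ({z} : Set G))) : G) v := by
  classical
  obtain ⟨hz, hF, hext, hcard, g₀, ⟨hg₀C, hg₀Q⟩, hg₀ne⟩ := hS
  obtain ⟨hadd, hsurj, hker, hequiv⟩ := hψ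
  have hzC : z ∈ (Subgroup.centralizer ({z} : Set G)) := Subgroup.mem_centralizer_singleton_iff.2 rfl
  have hzQ : (⟨z, hzC⟩ : ↥(Subgroup.centralizer ({z} : Set G))) ∈ Q := hF ▸ CfsgLib.KSteps.center_le_gfit _
    (Subgroup.mem_center_iff.2 fun g => Subtype.ext (Subgroup.mem_centralizer_singleton_iff.1 g.2))
  have hfaith : Subgroup.centralizer (Q : Set ↥(Subgroup.centralizer ({z} : Set G))) ≤ Q := by
    have h := CfsgLib.Components.centralizer_genFitting_le (G := ↥(Subgroup.centralizer ({z} : Set G)))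
    rwa [hF] at h
  have hinj : Function.Injective (Subgroup.centralizer ({z} : Set G)).subtype := (Subgroup.centralizer ({z} : Set G)).subtype_injective
  have hmemQ : ∀ h : ↥(Subgroup.centralizer ({z} : Set G)), (h : G) ∈ Q.map (Subgroup.centralizer ({z} : Set G)).subtype ↔ h ∈ Q := fun h => Subgroup.mem_map_iff_mem hinj
  have hsetting : LargeExtra.Setting z (Q.map (Subgroup.centralizer ({z} : Set G)).subtype) := by
    refine LargeExtra.setting_of_extraspecial hz (Subgroup.map_subtype_le _) (fun h hh x hx => ?_) ?_ ?_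
    · obtain ⟨y, hy, rfl⟩ := hx
      exact ⟨⟨h, LargeExtra.mem_centralizer_z.2 hh⟩ * y * ⟨h, LargeExtra.mem_centralizer_z.2 hh⟩⁻¹,
        Subgroup.Normal.conj_mem ‹_› y hy _, rfl⟩
    · let eQ := Q.equivMapOfInjective (Subgroup.centralizer ({z} : Set G)).subtype hinj
      have hc : Subgroup.center ↥(Q.map (Subgroup.centralizer ({z} : Set G)).subtype) = (Subgroup.center Q).map eQ.toMonoidHom := by
        ext x
        rw [Subgroup.mem_map_equiv, Subgroup.mem_center_iff, Subgroup.mem_center_iff]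
        constructor
        · intro h a
          have := h (eQ a)
          apply eQ.injective
          simpa using this
        · intro h a
          have := congrArg eQ (h (eQ.symm a))
          simpa using this
      refine ⟨⟨hext.1.1.of_equiv eQ, ?_, ?_⟩, ?_⟩
      · rw [hc, ← hext.1.2.1]
        refine le_antisymm (fun x hx => ?_) (Subgroup.map_le_iff_le_comap.2
          (frattini_le_comap_frattini_of_surjective eQ.surjective))
        rw [Subgroup.mem_map_equiv]
        exact frattini_le_comap_frattini_of_surjective (φ := eQ.symm.toMonoidHom) eQ.symm.surjective hx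
      · rw [hc, ← hext.1.2.2, commutator_def, commutator_def, Subgroup.map_commutator,
          Subgroup.map_top_of_surjective eQ.toMonoidHom eQ.surjective]
      · rw [hc, Subgroup.card_map_of_injective (K := Subgroup.center Q) eQ.injective, hext.2]
    · intro x hx
      have hxC : x ∈ (Subgroup.centralizer ({z} : Set G)) := Subgroup.mem_centralizer_singleton_iff.2
        (Subgroup.mem_centralizer_iff.1 hx z ((hmemQ ⟨z, hzC⟩).2 hzQ)).symm
      exact (hmemQ ⟨x, hxC⟩).2 (hfaith (Subgroup.mem_centralizer_iff.2 fun q hq =>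
        Subtype.ext (Subgroup.mem_centralizer_iff.1 hx _ ((hmemQ q).2 hq))))
  have hcen : ∀ a b : Q, (QuotientGroup.mk a : Q ⧸ Subgroup.center Q) = QuotientGroup.mk b →
      ((b : ↥(Subgroup.centralizer ({z} : Set G))) : G) = ((a : ↥(Subgroup.centralizer ({z} : Set G))) : G) ∨ ((b : ↥(Subgroup.centralizer ({z} : Set G))) : G) = ((a : ↥(Subgroup.centralizer ({z} : Set G))) : G) * z := by
    intro a b h
    have h1 := QuotientGroup.eq.1 h
    rcases hsetting.center (((a⁻¹ * b : Q) : ↥(Subgroup.centralizer ({z} : Set G))) : G) ((hmemQ _).2 (a⁻¹ * b).2) (fun c hc => by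
      obtain ⟨y, hy, rfl⟩ := hc
      exact congrArg (fun q : Q => ((q : ↥(Subgroup.centralizer ({z} : Set G))) : G)) (Subgroup.mem_center_iff.1 h1 ⟨y, hy⟩).symm) with e | e
    · left
      simp only [Subgroup.coe_mul, InvMemClass.coe_inv] at e
      exact (inv_mul_eq_one.1 e).symm
    · right
      simp only [Subgroup.coe_mul, InvMemClass.coe_inv] at e
      exact inv_mul_eq_iff_eq_mul.1 e
  have hzcen : (⟨⟨z, hzC⟩, hzQ⟩ : Q) ∈ Subgroup.center Q := Subgroup.mem_center_iff.2 fun a =>
    Subtype.ext (Subtype.ext (Subgroup.mem_centralizer_singleton_iff.1 a.1.2))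
  let lift : leechLattice → Q := fun v => (ψ v).out
  have hlift : ∀ v, (QuotientGroup.mk (lift v) : Q ⧸ Subgroup.center Q) = ψ v := fun v =>
    QuotientGroup.out_eq' _
  let θ : leechLattice → G := fun v => ((lift v : ↥(Subgroup.centralizer ({z} : Set G))) : G)
  have hiff : ∀ (x : Q) (v : leechLattice), ψ v = QuotientGroup.mk x ↔
      Cls z θ ((x : ↥(Subgroup.centralizer ({z} : Set G))) : G) v := by
    intro x v
    constructor
    · exact fun h => hcen _ _ ((hlift v).trans h)
    · intro h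
      rw [← hlift v, QuotientGroup.eq]
      rcases h with h | h
      · have : x = lift v := Subtype.ext (Subtype.ext h)
        rw [this, inv_mul_cancel]
        exact one_mem _
      · have : x = lift v * ⟨⟨z, hzC⟩, hzQ⟩ := Subtype.ext (Subtype.ext h)
        rw [this, inv_mul_cancel_left]
        exact hzcen
  refine ⟨θ, ?_, hiff⟩
  have hψ0 : ψ 0 = 1 := (hker 0).2 ⟨0, by simp⟩
  refine
    { hz := hz
      S := hsetting
      le := Subgroup.map_subtype_le _
      card := by rw [Subgroup.card_map_of_injective hinj, hcard]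
      surj := e.surjective.comp (QuotientGroup.mk'_surjective Q)
      ker := fun h => by
        show e (QuotientGroup.mk h) = 1 ↔ _
        rw [MulEquiv.map_eq_one_iff, QuotientGroup.eq_one_iff, hmemQ]
      mem := fun v => (hmemQ _).2 (lift v).2
      cover := fun q hq => by
        obtain ⟨y, hy, rfl⟩ := hq
        obtain ⟨v, hv⟩ := hsurj (QuotientGroup.mk ⟨y, hy⟩)
        exact ⟨v, (hiff _ v).1 hv⟩
      add := fun v w => by
        refine pm_cls hsetting.sq_one ((hiff (lift v * lift w) (v + w)).1 ?_)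
        rw [hadd, QuotientGroup.mk_mul, hlift, hlift]
      zero := fun v => by
        constructor
        · intro h
          obtain ⟨u, hu⟩ := (hker v).1 ((hiff 1 v).2 (by
            rcases h with h | h
            · exact Or.inl h.symm
            · exact Or.inr (by rw [h, hsetting.sq_one]; rfl)))
          exact ⟨u, by rw [sub_zero, hu]⟩
        · rintro ⟨u, hu⟩
          rw [sub_zero] at hu
          rcases (hiff 1 v).1 ((hker v).2 ⟨u, hu⟩) with h | h
          · exact Or.inl h.symm
          · exact Or.inr ((eq_inv_of_mul_eq_one_left h.symm).trans hsetting.inv_z)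
      equiv := fun h g hg v => by
        have h1 := hequiv h g hg.symm v (lift v) (hlift v).symm
        exact (hiff _ (g • v)).1 h1
      nwc := ⟨_, (hmemQ ⟨_, hg₀C⟩).2 hg₀Q, isConj_iff.2 ⟨g₀, rfl⟩, hg₀ne⟩ }

end CfsgLib.MonsterQ
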